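import Mathlib.RingTheory.IntegralClosure.IntegrallyClosed
import Mathlib.RingTheory.RootsOfUnity.PrimitiveRoots
import Mathlib.RingTheory.Polynomial.ScaleRoots
import Mathlib.FieldTheory.IsAlgClosed.AlgebraicClosure
import Mathlib.RingTheory.Localization.FractionRing
import Mathlib.LinearAlgebra.Basis.Basic
import Mathlib.Algebra.BigOperators.Field
import Mathlib.Algebra.Field.GeomSum
import Mathlib.RingTheory.Ideal.Operations

/-!
# The normalisation of `B[T]/(T^N - f)`

`B` an integrally closed domain with enough roots of unity, `C` an integral `B`-algebra which is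
birational to `B[T]/(T^N - f)` and integrally closed in the weak sense that `g ^ n ∣ y ^ n` forces
`g ∣ y` for regular `g`.  For `f = u ∏ v_j ^ α_j` with `∏ v_j` squarefree, `C` is free on the
`T ^ i / ∏ v_j ^ [i α_j / N]`.
-/

set_option autoImplicit false

universe u w

open Polynomial

namespace Groth.Agent.CycCov28

variable {B C : Type u} [CommRing B] [IsDomain B] [CommRing C] [Algebra B C]

/-- The data of a cyclic cover algebra. -/
structure CovData {B C : Type u} [CommRing B] [CommRing C] [Algebra B C] (N : ℕ) (f : B) (t : C) where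
  hN : 0 < N
  hNu : IsUnit (N : B)
  ζ : B
  hζ : IsPrimitiveRoot ζ N
  ht : t ^ N = algebraMap B C f
  g : B
  hg : g ≠ 0
  hgC : algebraMap B C g ∈ nonZeroDivisors C
  hinj : ∀ a : Fin N → B, ∑ i, a i • t ^ (i : ℕ) = 0 → a = 0
  hexp : ∀ c : C, ∃ (n : ℕ) (a : Fin N → B), g ^ n • c = ∑ i, a i • t ^ (i : ℕ)
  hclosed : ∀ (x y : C) (n : ℕ), 0 < n → x ∈ nonZeroDivisors C → x ^ n ∣ y ^ n → x ∣ y
  integral : Algebra.IsIntegral B C

variable {N : ℕ} {f : B} {t : C} (S : CovData N f t)
include S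

theorem CovData.smul_eq_zero {b : B} (hb : b ≠ 0) {c : C} (h : b • c = 0) : c = 0 := by
  obtain ⟨n, a, ha⟩ := S.hexp c
  have h0 : (fun i => b * a i) = 0 := S.hinj _ (by
    simp only [mul_smul, ← Finset.smul_sum, ← ha]
    rw [smul_comm, h, smul_zero])
  have ha0 : a = 0 := funext fun i => (mul_eq_zero.1 (congrFun h0 i)).resolve_left hb
  rw [ha0] at ha
  simp only [Pi.zero_apply, Algebra.smul_def, map_zero, zero_mul, Finset.sum_const_zero, map_pow] at ha
  exact (mem_nonZeroDivisors_iff.1 (pow_mem S.hgC n)).1 c ha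

theorem CovData.algebraMap_mem {b : B} (hb : b ≠ 0) : algebraMap B C b ∈ nonZeroDivisors C := by
  rw [mem_nonZeroDivisors_iff_right]
  intro c hc
  exact S.smul_eq_zero hb (by rwa [Algebra.smul_def, mul_comm])

/-- The coefficients of an element are controlled by its integrality. -/
theorem CovData.dvd_coeff [IsIntegrallyClosed B] (c : C) (n : ℕ) (a : Fin N → B)
    (ha : S.g ^ n • c = ∑ i, a i • t ^ (i : ℕ)) (i : Fin N) :
    (S.g ^ n) ^ N ∣ a i ^ N * f ^ (i : ℕ) := by
  classical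
  haveI := S.integral
  let K := FractionRing B
  let Ω := AlgebraicClosure K
  obtain ⟨τ, hτ⟩ := IsAlgClosed.exists_pow_nat_eq (algebraMap B Ω f) S.hN
  have hinjΩ : Function.Injective (algebraMap B Ω) := by
    rw [IsScalarTower.algebraMap_eq B K Ω]
    exact (algebraMap K Ω).injective.comp (IsFractionRing.injective B K)
  let q : B[X] := ∑ j, Polynomial.C (a j) * Polynomial.X ^ (j : ℕ)
  have hq : aeval t q = S.g ^ n • c := by simp [q, ha, Algebra.smul_def]
  obtain ⟨p, hp, hpc⟩ := Algebra.IsIntegral.isIntegral (R := B) c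
  let P : B[X] := (p.scaleRoots (S.g ^ n)).comp q
  have hP : aeval t P = 0 := by
    rw [aeval_comp, hq, Algebra.smul_def]
    exact scaleRoots_eval₂_eq_zero (algebraMap B C) hpc
  let G : B[X] := X ^ N - Polynomial.C f
  have hG : G.Monic := monic_X_pow_sub_C f S.hN.ne'
  have hdvd : G ∣ P := by
    rw [← modByMonic_eq_zero_iff_dvd hG]
    have hmod : aeval t (P %ₘ G) = 0 := by
      have h1 := congrArg (aeval t) (modByMonic_add_div P G)
      rw [map_add, map_mul, hP] at h1
      rw [← h1]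
      simp [G, S.ht]
    have hdeg : (P %ₘ G).natDegree < N := by
      by_cases h0 : P %ₘ G = 0
      · rw [h0, natDegree_zero]; exact S.hN
      · have := natDegree_lt_natDegree h0 ((degree_modByMonic_lt P hG).trans_eq rfl)
        rwa [natDegree_X_pow_sub_C] at this
    rw [aeval_eq_sum_range' hdeg, ← Fin.sum_univ_eq_sum_range (fun j => (P %ₘ G).coeff j • t ^ j)] at hmod
    have hcoef := S.hinj _ hmod
    refine Polynomial.ext fun j => ?_
    by_cases hj : j < N
    · rw [coeff_zero]; exact congrFun hcoef ⟨j, hj⟩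
    · rw [coeff_zero]; exact coeff_eq_zero_of_natDegree_lt (hdeg.trans_le (not_lt.1 hj))
  have hgn : algebraMap B Ω (S.g ^ n) ≠ 0 := (map_ne_zero_iff _ hinjΩ).2 (pow_ne_zero _ S.hg)
  have hroot : ∀ m : ℕ, IsIntegral B (aeval (algebraMap B Ω S.ζ ^ m * τ) q / algebraMap B Ω (S.g ^ n)) := fun m => by
    refine ⟨p, hp, ?_⟩
    have h0 : aeval (algebraMap B Ω S.ζ ^ m * τ) P = 0 := by
      obtain ⟨Q, hQ⟩ := hdvd
      rw [hQ, map_mul]
      simp only [G, map_sub, map_pow, aeval_X, aeval_C, mul_pow, hτ]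
      rw [← pow_mul, mul_comm m, pow_mul, ← map_pow, S.hζ.pow_eq_one, map_one, one_pow, one_mul, sub_self, zero_mul]
    have e : aeval (algebraMap B Ω S.ζ ^ m * τ) q =
        algebraMap B Ω (S.g ^ n) * (aeval (algebraMap B Ω S.ζ ^ m * τ) q / algebraMap B Ω (S.g ^ n)) :=
      (mul_div_cancel₀ _ hgn).symm
    rw [aeval_comp, e] at h0
    rw [aeval_def, scaleRoots_eval₂_mul] at h0
    exact (mul_eq_zero.1 h0).resolve_left (pow_ne_zero _ hgn)
  -- the discrete Fourier transform
  let ζΩ := algebraMap B Ω S.ζ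
  have hζΩ : IsPrimitiveRoot ζΩ N := S.hζ.map_of_injective hinjΩ
  let e : ℕ := N - i
  have hsum : ∑ m ∈ Finset.range N, ζΩ ^ (m * e) * (aeval (ζΩ ^ m * τ) q / algebraMap B Ω (S.g ^ n)) =
      (N : Ω) * (algebraMap B Ω (a i) * τ ^ (i : ℕ)) / algebraMap B Ω (S.g ^ n) := by
    rw [Finset.sum_congr rfl fun m _ => (mul_div_assoc (ζΩ ^ (m * e)) (aeval (ζΩ ^ m * τ) q) (algebraMap B Ω (S.g ^ n))).symm,
      ← Finset.sum_div]
    congr 1
    simp only [q, map_sum, map_mul, map_pow, aeval_X, aeval_C]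
    rw [Finset.sum_congr rfl fun m _ => Finset.mul_sum _ _ _, Finset.sum_comm]
    rw [Finset.sum_eq_single i]
    · have : ∀ m : ℕ, ζΩ ^ (m * e) * (algebraMap B Ω (a i) * (ζΩ ^ m * τ) ^ (i : ℕ)) = algebraMap B Ω (a i) * τ ^ (i : ℕ) := fun m => by
        rw [mul_pow, ← pow_mul]
        have : ζΩ ^ (m * e) * ζΩ ^ (m * (i : ℕ)) = 1 := by
          rw [← pow_add, ← mul_add, Nat.sub_add_cancel i.2.le, mul_comm, pow_mul, hζΩ.pow_eq_one, one_pow]
        linear_combination (algebraMap B Ω (a i) * τ ^ (i : ℕ)) * this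
      rw [Finset.sum_congr rfl fun m _ => this m, Finset.sum_const, Finset.card_range, nsmul_eq_mul]
    · intro j _ hj
      have : ∀ m : ℕ, ζΩ ^ (m * e) * (algebraMap B Ω (a j) * (ζΩ ^ m * τ) ^ (j : ℕ)) =
          algebraMap B Ω (a j) * τ ^ (j : ℕ) * (ζΩ ^ (e + j)) ^ m := fun m => by
        rw [mul_pow, ← pow_mul, ← pow_mul, add_mul, pow_add, mul_comm e m, mul_comm (j : ℕ) m]
        ring
      rw [Finset.sum_congr rfl fun m _ => this m, ← Finset.mul_sum]
      have hne : ζΩ ^ (e + j) ≠ 1 := fun h1 => by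
        apply hj
        have h2 := (hζΩ.pow_eq_one_iff_dvd _).1 h1
        apply Fin.ext
        have hi := i.2
        have hj2 := j.2
        obtain ⟨k, hk⟩ := h2
        have hk' : k = 1 := by
          rcases k with _ | _ | k
          · simp only [Nat.mul_zero] at hk; omega
          · rfl
          · have : N * 2 ≤ N * (k + 1 + 1) := Nat.mul_le_mul_left _ (by omega)
            omega
        rw [hk', mul_one] at hk
        omega
      rw [geom_sum_eq hne, ← pow_mul, mul_comm (e + (j : ℕ)), pow_mul, hζΩ.pow_eq_one, one_pow, sub_self, zero_div, mul_zero]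
    · simp
  have hint : IsIntegral B ((N : Ω) * (algebraMap B Ω (a i) * τ ^ (i : ℕ)) / algebraMap B Ω (S.g ^ n)) :=
    hsum ▸ IsIntegral.sum _ fun m _ => ((isIntegral_algebraMap (x := S.ζ)).pow _).mul (hroot m)
  have hpow := hint.pow N
  let x : K := algebraMap B K ((N : B) ^ N * (a i ^ N * f ^ (i : ℕ))) / algebraMap B K ((S.g ^ n) ^ N)
  have hx : algebraMap K Ω x =
      ((N : Ω) * (algebraMap B Ω (a i) * τ ^ (i : ℕ)) / algebraMap B Ω (S.g ^ n)) ^ N := by
    simp only [x, map_div₀, ← IsScalarTower.algebraMap_apply, map_mul, map_pow, map_natCast, div_pow, mul_pow]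
    rw [← pow_mul τ, mul_comm (i : ℕ), pow_mul τ, hτ]
  rw [← hx, isIntegral_algebraMap_iff (algebraMap K Ω).injective, IsIntegrallyClosed.isIntegral_iff] at hpow
  obtain ⟨y, hy⟩ := hpow
  simp only [x] at hy
  rw [eq_div_iff ((map_ne_zero_iff _ (IsFractionRing.injective B K)).2 (pow_ne_zero _ (pow_ne_zero _ S.hg))), ← map_mul] at hy
  have hy' := IsFractionRing.injective B K hy
  exact ((S.hNu.pow N).dvd_mul_left).1 ⟨y, by rw [← hy', mul_comm]⟩

/-- Structure of the cover when `f` is a unit times a product of powers of elements with squarefree product. -/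
theorem CovData.exists_basis [IsIntegrallyClosed B] {ι : Type w} [Fintype ι] (u : Bˣ) (v : ι → B)
    (α : ι → ℕ) (hv0 : ∀ j, v j ≠ 0) (hv : (Ideal.span {∏ j, v j}).IsRadical)
    (hf : f = u * ∏ j, v j ^ α j) :
    ∃ w : Module.Basis (Fin N) B C,
      ∀ i : Fin N, algebraMap B C (∏ j, v j ^ ((i : ℕ) * α j / N)) * w i = t ^ (i : ℕ) := by
  classical
  let V : Fin N → B := fun i => ∏ j, v j ^ ((i : ℕ) * α j / N)
  let R : Fin N → B := fun i => ∏ j, v j ^ ((i : ℕ) * α j % N)
  have hV0 : ∀ i, V i ≠ 0 := fun i => Finset.prod_ne_zero_iff.2 fun j _ => pow_ne_zero _ (hv0 j)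
  have hfi : ∀ i : Fin N, f ^ (i : ℕ) = u ^ (i : ℕ) * (V i ^ N * R i) := fun i => by
    rw [hf, mul_pow]
    congr 1
    rw [← Finset.prod_pow, ← Finset.prod_pow, ← Finset.prod_mul_distrib]
    refine Finset.prod_congr rfl fun j _ => ?_
    rw [← pow_mul, ← pow_mul, ← pow_add, mul_comm (α j), mul_comm _ N, Nat.div_add_mod]
  have hw : ∀ i : Fin N, ∃ c : C, algebraMap B C (V i) * c = t ^ (i : ℕ) := fun i => by
    refine (S.hclosed _ _ N S.hN (S.algebraMap_mem (hV0 i)) ⟨algebraMap B C (u ^ (i : ℕ) * R i), ?_⟩).imp fun c h => h.symm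
    rw [← pow_mul, mul_comm (i : ℕ), pow_mul, S.ht, ← map_pow, hfi, ← map_pow, ← map_mul]
    congr 1
    ring
  choose w hw using hw
  have hwt : ∀ i (b : B), (b * V i) • t ^ (0 : ℕ) * w i = b • t ^ (i : ℕ) := fun i b => by
    rw [← hw i, pow_zero, Algebra.smul_def, mul_one, map_mul, Algebra.smul_def, mul_assoc]
  have hli : LinearIndependent B w := by
    rw [Fintype.linearIndependent_iff]
    intro b hb i
    have h2 := S.hinj (fun i => b i * ∏ k ∈ Finset.univ.erase i, V k) (by
      have := congrArg ((∏ k, V k) • ·) hb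
      simp only [smul_zero, Finset.smul_sum] at this
      refine (Finset.sum_congr rfl fun i _ => ?_).trans this
      rw [smul_smul, ← Finset.mul_prod_erase Finset.univ V (Finset.mem_univ i), ← hw i, Algebra.smul_def,
        Algebra.smul_def, map_mul, map_mul, map_mul]
      ring)
    exact (mul_eq_zero.1 (congrFun h2 i)).resolve_right (Finset.prod_ne_zero_iff.2 fun k _ => hV0 k)
  refine ⟨Module.Basis.mk hli ?_, fun i => by rw [Module.Basis.mk_apply]; exact hw i⟩
  intro c _
  obtain ⟨n, a, ha⟩ := S.hexp c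
  have hdv : ∀ i, ∃ b, a i * V i = S.g ^ n * b := fun i => by
    let P := ∏ j, v j
    have hP : P ∣ R i * ∏ j, v j ^ (N - (i : ℕ) * α j % N) := by
      rw [← Finset.prod_mul_distrib]
      refine Finset.prod_dvd_prod_of_dvd _ _ fun j _ => ?_
      rw [← pow_add, Nat.add_sub_cancel' (Nat.mod_lt _ S.hN).le]
      exact dvd_pow_self _ S.hN.ne'
    let Q := ∏ j, v j ^ (N - (i : ℕ) * α j % N)
    have hPN : (a i * V i * P) ^ N = (a i ^ N * (V i ^ N * R i)) * Q := by
      rw [mul_pow, mul_pow, mul_assoc (a i ^ N) _ Q, mul_assoc (V i ^ N)]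
      simp only [R, Q, P, ← Finset.prod_mul_distrib, ← Finset.prod_pow, ← pow_add]
      rw [mul_assoc]
      congr 2
      refine Finset.prod_congr rfl fun j _ => ?_
      rw [Nat.add_sub_cancel' (Nat.mod_lt _ S.hN).le]
    have hd : (S.g ^ n) ^ N ∣ a i ^ N * (V i ^ N * R i) := by
      have h1 := S.dvd_coeff c n a ha i
      rw [hfi] at h1
      rw [← ((u.isUnit.pow (i : ℕ))).dvd_mul_left, mul_left_comm]
      exact h1
    obtain ⟨m, hm⟩ := hd
    obtain ⟨z, hz⟩ := (IsIntegrallyClosed.pow_dvd_pow_iff S.hN.ne').1 (show (S.g ^ n) ^ N ∣ (a i * V i * P) ^ N from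
      ⟨m * Q, by rw [hPN, hm, mul_assoc]⟩)
    have hzN : P ∣ z ^ N := by
      have hQP : P ∣ Q := Finset.prod_dvd_prod_of_dvd _ _ fun j _ =>
        dvd_pow_self _ (Nat.sub_pos_of_lt (Nat.mod_lt _ S.hN)).ne'
      have h1 : (S.g ^ n) ^ N * z ^ N = (S.g ^ n) ^ N * (m * Q) := by
        rw [← mul_pow, ← hz, hPN, hm, mul_assoc]
      rw [mul_left_cancel₀ (pow_ne_zero _ (pow_ne_zero _ S.hg)) h1]
      exact hQP.mul_left m
    obtain ⟨b, rfl⟩ := Ideal.mem_span_singleton.1 (hv ⟨N, Ideal.mem_span_singleton.2 hzN⟩)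
    refine ⟨b, mul_right_cancel₀ (Finset.prod_ne_zero_iff.2 fun j _ => hv0 j) (a := a i * V i) (b := P) ?_⟩
    rw [hz]; ring
  choose b hb using hdv
  have : c = ∑ i, b i • w i := by
    refine sub_eq_zero.1 (S.smul_eq_zero (pow_ne_zero n S.hg) ?_)
    rw [smul_sub, ha, Finset.smul_sum, ← Finset.sum_sub_distrib]
    refine Finset.sum_eq_zero fun i _ => ?_
    rw [sub_eq_zero, smul_smul, ← hb, ← hw i, Algebra.smul_def, Algebra.smul_def, map_mul, mul_assoc]
  rw [this]
  exact Submodule.sum_mem _ fun i _ => Submodule.smul_mem _ _ (Submodule.subset_span ⟨i, rfl⟩)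

end Groth.Agent.CycCov28
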