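import Groth.Agent.CycCov28.Local
import Groth.Agent.SmoothLib.Monogenic
import Mathlib.AlgebraicGeometry.Morphisms.Etale

/-!
# Structure of the cover over a local chart; etaleness away from the branch locus
-/

set_option autoImplicit false
set_option linter.style.haveILetI false
set_option linter.unusedSectionVars false
set_option backward.isDefEq.respectTransparency false
set_option backward.isDefEq.respectTransparency.types false
set_option maxHeartbeats 1000000

universe u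

open CategoryTheory CategoryTheory.Limits AlgebraicGeometry Opposite TopologicalSpace
open Groth.Agent.Coherent Groth.Agent.PicLib Groth.Agent.AmpleLib

namespace Groth.Agent.CycCov28

variable {k : Type u} [Field k] {X Y : Scheme.{u}} (f0 : X ⟶ Spec (CommRingCat.of k)) [Smooth f0] [IsIntegral X]
variable {r : ℕ} {D : Fin r → X.IdealSheafData} {α : Fin r → ℕ}
variable {L : X.Modules} {N : ℕ} {s : Coh.structureModule X ⟶ CohB1.tensorPow L N} {π : Y ⟶ X}

/-- The coordinate of the root over the chart. -/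
noncomputable def LocalData.t (R : CycCov.Root L N s π) {x : X} (Λ : LocalData D α s x) : Γ(Y, π ⁻¹ᵁ Λ.U) :=
  R.t ⟨Λ.U, Λ.hU⟩ Λ.e (cycGen Λ.he)

include f0 in
/-- Over a chart the functions on the cover are free on `T ^ i / ∏ v_j ^ [i α_j / N]`. -/
theorem exists_basis_local (hL : PicF.IsInvertible L) (hN : 0 < N) (R : CycCov.Root L N s π) (hR : CycCov.IsCover R)
    {x : X} (Λ : LocalData D α s x) :
    letI := (π.app Λ.U).hom.toAlgebra
    ∃ (_ : CovData N Λ.f (Λ.t R)) (w : Module.Basis (Fin N) Γ(X, Λ.U) Γ(Y, π ⁻¹ᵁ Λ.U)),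
      ∀ i : Fin N, algebraMap Γ(X, Λ.U) Γ(Y, π ⁻¹ᵁ Λ.U) (∏ j, Λ.v j ^ ((i : ℕ) * α j.1 / N)) * w i = Λ.t R ^ (i : ℕ) := by
  letI := (π.app Λ.U).hom.toAlgebra
  haveI : Nonempty Λ.U := ⟨⟨x, Λ.hxU⟩⟩
  haveI := NormalExtLib.isIntegrallyClosed_sections (FlatMorLocalStr.isNormalScheme_of_smooth_field f0) Λ.U Λ.hU
  obtain ⟨S⟩ := exists_covData hL hN R hR Λ.hU Λ.e Λ.he Λ.f Λ.hf Λ.hNu Λ.ζ Λ.hζ
  exact ⟨S, S.exists_basis Λ.u Λ.v (fun j => α j.1) Λ.hv0 Λ.hrad Λ.hfac⟩

/-- Without branching the cover is the simple one, which is etale. -/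
theorem etale_of_basis {B C : Type u} [CommRing B] [CommRing C] [Algebra B C] [Nontrivial B] (N : ℕ) (hN : 0 < N)
    (hNu : IsUnit (N : B)) (u : Bˣ) (t : C) (ht : t ^ N = algebraMap B C u) (w : Module.Basis (Fin N) B C)
    (hw : ∀ i, w i = t ^ (i : ℕ)) : Algebra.Etale B C := by
  let G : Polynomial B := Polynomial.X ^ N - Polynomial.C (u : B)
  haveI := SmoothLib.etale_adjoinRoot_of_separable G (Polynomial.monic_X_pow_sub_C _ hN.ne')
    (Polynomial.separable_X_pow_sub_C_unit u hNu)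
  let φ : AdjoinRoot G →ₐ[B] C := AdjoinRoot.liftAlgHom G (Algebra.ofId B C) t (by
    show Polynomial.eval₂ (algebraMap B C) t G = 0
    simp [G, ht])
  have hφ : ∀ a : Fin N → B, φ (∑ i, AdjoinRoot.of G (a i) * AdjoinRoot.root G ^ (i : ℕ)) = ∑ i, a i • w i := fun a => by
    rw [map_sum]
    refine Finset.sum_congr rfl fun i _ => ?_
    rw [map_mul, map_pow, hw, Algebra.smul_def, AdjoinRoot.liftAlgHom_root,
      show AdjoinRoot.of G (a i) = algebraMap B (AdjoinRoot G) (a i) from rfl, AlgHom.commutes]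
  refine Algebra.Etale.of_equiv (AlgEquiv.ofBijective φ ⟨(injective_iff_map_eq_zero φ).2 fun z hz => ?_, fun c => ?_⟩)
  · obtain ⟨a, rfl⟩ := exists_coeff N hN (u : B) z
    rw [hφ] at hz
    have ha : a = 0 := funext fun i => Fintype.linearIndependent_iff.1 w.linearIndependent a hz i
    simp [ha]
  · exact ⟨_, (hφ (w.repr c)).trans (w.sum_repr c)⟩

include f0 in
theorem etale_restrict (hL : PicF.IsInvertible L) (hN : 0 < N) (hNk : (N : k) ≠ 0) [IsAlgClosed k]
    (hD : LogNCD.IsNCD D f0) (hs : CycCov.IsZeroDiv (CohB1.tensorPow L N) s (CycCov.divIdeal D α))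
    (R : CycCov.Root L N s π) (hR : CycCov.IsCover R)
    (W : X.Opens) (hW : ∀ j : Fin r, 0 < α j → Disjoint (W : Set X) ((D j).support : Set X)) :
    Etale (π ∣_ W) := by
  haveI : IsFinite π := hR.1
  haveI : IsAffineHom π := inferInstance
  refine (IsZariskiLocalAtTarget.iff_of_iSup_eq_top (P := @Etale)
    (fun x : W => W.ι ⁻¹ᵁ (exists_localData f0 hL hNk hD hs x.1 W x.2).choose.U) ?_).2 fun x => ?_
  · refine top_le_iff.1 fun z _ => Opens.mem_iSup.2 ⟨z, ?_⟩
    exact (exists_localData f0 hL hNk hD hs z.1 W z.2).choose.hxU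
  set Λ := (exists_localData f0 hL hNk hD hs x.1 W x.2).choose
  have hΛW : Λ.U ≤ W := (exists_localData f0 hL hNk hD hs x.1 W x.2).choose_spec.1
  refine (MorphismProperty.arrow_mk_iso_iff @Etale (morphismRestrictRestrict π W _)).2 ?_
  have himg : W.ι ''ᵁ (W.ι ⁻¹ᵁ Λ.U) = Λ.U := by
    rw [W.ι.image_preimage_eq_opensRange_inf, Scheme.Opens.opensRange_ι, inf_eq_right]
    exact hΛW
  rw [himg]
  haveI : IsAffine Λ.U.toScheme := Λ.hU
  haveI : IsAffine (π ⁻¹ᵁ Λ.U).toScheme := Λ.hU.preimage π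
  haveI : Nonempty Λ.U := ⟨⟨x.1, Λ.hxU⟩⟩
  rw [HasRingHomProperty.iff_of_isAffine (P := @Etale), morphismRestrict_appTop, CommRingCat.hom_comp,
    RingHom.Etale.respectsIso.cancel_right_isIso, Scheme.Hom.app_eq π Λ.U.ι_image_top, CommRingCat.hom_comp,
    CommRingCat.hom_comp]
  refine RingHom.Etale.stableUnderComposition _ _ (.of_bijective (ConcreteCategory.bijective_of_isIso (X.presheaf.map (eqToHom _).op)))
    (RingHom.Etale.stableUnderComposition _ _ ?_ (.of_bijective (ConcreteCategory.bijective_of_isIso _)))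
  letI := (π.app Λ.U).hom.toAlgebra
  obtain ⟨S, w, hw⟩ := exists_basis_local f0 hL hN R hR Λ
  have hα0 : ∀ j : LogNCD.Through D x.1, α j.1 = 0 := fun j => by
    by_contra h
    exact Set.disjoint_left.1 (hW j.1 (Nat.pos_of_ne_zero h)) x.2 j.2
  refine RingHom.etale_algebraMap.2 (etale_of_basis N hN Λ.hNu Λ.u (Λ.t R) ?_ w fun i => ?_)
  · rw [S.ht, Λ.hfac]
    simp [hα0]
  · have := hw i
    simpa [hα0] using this

end Groth.Agent.CycCov28
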