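import Groth.Agent.CycCov28.Local
import Groth.Agent.CycCov28.Etale
import Mathlib.FieldTheory.Minpoly.Field
import Mathlib.FieldTheory.IsAlgClosed.AlgebraicClosure

/-!
# When the cyclic cover is irreducible
-/

set_option autoImplicit false
set_option linter.style.haveILetI false
set_option linter.unusedSectionVars false
set_option backward.isDefEq.respectTransparency false
set_option backward.isDefEq.respectTransparency.types false
set_option maxHeartbeats 1000000

universe u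

open CategoryTheory CategoryTheory.Limits AlgebraicGeometry Opposite TopologicalSpace
open Groth.Agent.Coherent Groth.Agent.PicLib Groth.Agent.AmpleLib

namespace Groth.Agent.CycCov28

/-- `X ^ N - a` is irreducible over a field with enough roots of unity unless `a` is a power. -/
theorem irreducible_of_not_power {K : Type u} [Field K] (N : ℕ) (hN : 0 < N) (ζ : K) (hζ : IsPrimitiveRoot ζ N)
    (a : K) (ha0 : a ≠ 0) (ha : ∀ μ : ℕ, 1 < μ → μ ∣ N → ∀ c : K, c ^ μ ≠ a) :
    Irreducible (Polynomial.X ^ N - Polynomial.C a) := by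
  let G : Polynomial K := Polynomial.X ^ N - Polynomial.C a
  have hG : G.Monic := Polynomial.monic_X_pow_sub_C a hN.ne'
  let Ω := AlgebraicClosure K
  obtain ⟨x, hx⟩ := IsAlgClosed.exists_pow_nat_eq (algebraMap K Ω a) hN
  have hx0 : x ≠ 0 := fun h => ha0 ((map_eq_zero (algebraMap K Ω)).1 (by rw [← hx, h, zero_pow hN.ne']))
  have hGx : Polynomial.aeval x G = 0 := by simp [G, hx]
  have hint : IsIntegral K x := ⟨G, hG, by rw [← Polynomial.aeval_def]; exact hGx⟩
  let P := minpoly K x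
  have hPm : P.Monic := minpoly.monic hint
  have hdvd : P ∣ G := minpoly.dvd K x hGx
  -- the constant coefficient shows that a power of `x` is in `K`
  have hPs : (P.map (algebraMap K Ω)).Splits := IsAlgClosed.splits _
  have hroot : ∀ r ∈ (P.map (algebraMap K Ω)).roots, ∃ c : K, c ≠ 0 ∧ r = algebraMap K Ω c * x := fun r hr => by
    rw [Polynomial.mem_roots (hPm.map _).ne_zero, Polynomial.IsRoot, Polynomial.eval_map] at hr
    obtain ⟨Q, hQ⟩ := hdvd
    have hrN : r ^ N = algebraMap K Ω a := by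
      have h1 : Polynomial.eval₂ (algebraMap K Ω) r G = 0 := by rw [hQ, Polynomial.eval₂_mul, hr, zero_mul]
      simpa [G, sub_eq_zero] using h1
    have hq : (r / x) ^ N = 1 := by rw [div_pow, hrN, hx, div_self ((map_ne_zero _).2 ha0)]
    haveI : NeZero N := ⟨hN.ne'⟩
    obtain ⟨i, -, hi⟩ := (hζ.map_of_injective (algebraMap K Ω).injective).eq_pow_of_pow_eq_one hq
    exact ⟨ζ ^ i, pow_ne_zero _ (hζ.ne_zero hN.ne'), by rw [map_pow, hi, div_mul_cancel₀ _ hx0]⟩
  have hm : ∃ c : K, algebraMap K Ω c = x ^ P.natDegree := by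
    have key : ∀ s : Multiset Ω, (∀ r ∈ s, ∃ c : K, c ≠ 0 ∧ r = algebraMap K Ω c * x) →
        ∃ c : K, c ≠ 0 ∧ s.prod = algebraMap K Ω c * x ^ Multiset.card s := by
      intro s
      induction s using Multiset.induction with
      | empty => intro _; exact ⟨1, one_ne_zero, by simp⟩
      | cons r s ih =>
        intro h
        obtain ⟨c, hc, hr⟩ := h r (Multiset.mem_cons_self _ _)
        obtain ⟨d, hd, hs⟩ := ih fun r' hr' => h r' (Multiset.mem_cons_of_mem hr')
        exact ⟨c * d, mul_ne_zero hc hd, by rw [Multiset.prod_cons, Multiset.card_cons, hr, hs, map_mul, pow_succ]; ring⟩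
    obtain ⟨c, hc, hprod⟩ := key _ hroot
    have hcard : Multiset.card (P.map (algebraMap K Ω)).roots = P.natDegree := by
      rw [← hPs.natDegree_eq_card_roots, hPm.natDegree_map]
    have hc0 := hPs.coeff_zero_eq_prod_roots_of_monic (hPm.map _)
    rw [Polynomial.coeff_map, hPm.natDegree_map, hprod, hcard] at hc0
    refine ⟨(-1) ^ P.natDegree * P.coeff 0 / c, ?_⟩
    rw [map_div₀, map_mul, map_pow, map_neg, map_one, hc0, ← mul_assoc, ← mul_pow, neg_one_mul, neg_neg, one_pow, one_mul,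
      mul_div_cancel_left₀ _ ((map_ne_zero _).2 hc)]
  let g := P.natDegree.gcd N
  have hg : ∃ c : K, algebraMap K Ω c = x ^ g := by
    obtain ⟨c, hc⟩ := hm
    refine ⟨c ^ P.natDegree.gcdA N * a ^ P.natDegree.gcdB N, ?_⟩
    rw [map_mul, map_zpow₀, map_zpow₀, hc, ← hx, ← zpow_natCast, ← zpow_natCast, ← zpow_mul, ← zpow_mul, ← zpow_add₀ hx0,
      ← zpow_natCast, Nat.gcd_eq_gcd_ab]
  obtain ⟨μ, hμ⟩ := Nat.gcd_dvd_right P.natDegree N
  obtain ⟨c, hc⟩ := hg
  have hμ1 : μ = 1 := by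
    by_contra h
    have hμ0 : μ ≠ 0 := fun h0 => hN.ne' (by rw [hμ, h0, mul_zero])
    refine ha μ (by omega) ⟨g, hμ.trans (mul_comm _ _)⟩ c ((algebraMap K Ω).injective ?_)
    rw [map_pow, hc, ← pow_mul, ← hμ, hx]
  have hdeg : P.natDegree = N := by
    refine le_antisymm ?_ ?_
    · have h1 := Polynomial.natDegree_le_of_dvd hdvd hG.ne_zero
      rwa [Polynomial.natDegree_X_pow_sub_C] at h1
    · have h1 : N ∣ P.natDegree := by
        have hgN : P.natDegree.gcd N = N := by rw [hμ1, mul_one] at hμ; exact hμ.symm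
        have := Nat.gcd_dvd_left P.natDegree N
        rwa [hgN] at this
      exact Nat.le_of_dvd (minpoly.natDegree_pos hint) h1
  have : G = P := Polynomial.eq_of_monic_of_dvd_of_natDegree_le hPm hG hdvd (by rw [hdeg, Polynomial.natDegree_X_pow_sub_C])
  show Irreducible G
  rw [this]
  exact minpoly.irreducible hint

open Polynomial in
theorem CovData.isDomain_iff {B C : Type u} [CommRing B] [IsDomain B] [IsIntegrallyClosed B] [CommRing C] [Algebra B C]
    {N : ℕ} {f : B} {t : C} (S : CovData N f t) (hf : f ≠ 0) :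
    IsDomain C ↔ ¬ ∃ μ : ℕ, 1 < μ ∧ μ ∣ N ∧ ∃ c : B, c ^ μ = f := by
  classical
  haveI : Nontrivial C := ⟨⟨1, 0, fun h => by
    have := S.hinj (Pi.single ⟨0, S.hN⟩ 1) (by
      rw [Finset.sum_eq_single ⟨0, S.hN⟩ (fun b _ hb => by simp [hb]) (by simp)]
      simp [h])
    simpa using congrFun this ⟨0, S.hN⟩⟩⟩
  let G : Polynomial B := Polynomial.X ^ N - Polynomial.C f
  have hG : G.Monic := Polynomial.monic_X_pow_sub_C f S.hN.ne'
  have hzero : ∀ P : Polynomial B, P.natDegree < N → aeval t P = 0 → P = 0 := fun P hd h => by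
    rw [aeval_eq_sum_range' hd, ← Fin.sum_univ_eq_sum_range (fun j => P.coeff j • t ^ j)] at h
    have hc := S.hinj _ h
    refine Polynomial.ext fun j => ?_
    by_cases hj : j < N
    · rw [coeff_zero]; exact congrFun hc ⟨j, hj⟩
    · rw [coeff_zero]; exact coeff_eq_zero_of_natDegree_lt (hd.trans_le (not_lt.1 hj))
  have hGt : aeval t G = 0 := by simp [G, S.ht]
  constructor
  · rintro hd ⟨μ, hμ, ⟨m, hm⟩, c, hc⟩
    have hm0 : 0 < m := Nat.pos_of_ne_zero fun h => S.hN.ne' (by rw [hm, h, mul_zero])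
    have hmN : m < N := by rw [hm]; exact lt_mul_of_one_lt_left hm0 hμ
    have hprod : (t ^ m - algebraMap B C c) * ∑ i ∈ Finset.range μ, (t ^ m) ^ i * algebraMap B C c ^ (μ - 1 - i) = 0 := by
      rw [mul_comm, geom_sum₂_mul, ← pow_mul, ← map_pow, hc, mul_comm, ← hm, S.ht, sub_self]
    rcases mul_eq_zero.1 hprod with h | h
    · have := hzero (Polynomial.X ^ m - Polynomial.C c) (by rwa [natDegree_X_pow_sub_C]) (by simpa using h)
      exact (monic_X_pow_sub_C c hm0.ne').ne_zero this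
    · let Q : Polynomial B := ∑ i ∈ Finset.range μ, Polynomial.C (c ^ (μ - 1 - i)) * Polynomial.X ^ (m * i)
      have hQd : Q.natDegree < N := by
        refine lt_of_le_of_lt (natDegree_sum_le_of_forall_le _ _ fun i hi => (natDegree_C_mul_X_pow_le _ _).trans
          (Nat.mul_le_mul_left m (Nat.le_sub_one_of_lt (Finset.mem_range.1 hi)))) ?_
        rw [hm, mul_comm μ]
        exact Nat.mul_lt_mul_of_pos_left (by omega) hm0
      have hQ := hzero Q hQd (by
        rw [map_sum]; refine Eq.trans ?_ h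
        refine Finset.sum_congr rfl fun i _ => ?_
        simp [pow_mul, mul_comm])
      have h1 := congrArg (fun p : Polynomial B => p.coeff (m * (μ - 1))) hQ
      rw [finsetSum_coeff, Finset.sum_eq_single (μ - 1)] at h1
      · simp at h1
      · intro i _ hi
        rw [coeff_C_mul, coeff_X_pow, if_neg fun h2 => hi (Nat.eq_of_mul_eq_mul_left hm0 h2).symm, mul_zero]
      · intro h2; exact absurd (Finset.mem_range.2 (by omega)) h2
  · intro hno
    let K := FractionRing B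
    let φ := algebraMap B K
    have hirr : Irreducible (G.map φ) := by
      simp only [G, Polynomial.map_sub, Polynomial.map_pow, Polynomial.map_X, Polynomial.map_C]
      refine irreducible_of_not_power N S.hN (φ S.ζ) (S.hζ.map_of_injective (IsFractionRing.injective B K)) _
        ((map_ne_zero_iff _ (IsFractionRing.injective B K)).2 hf) fun μ hμ hμN c hc => hno ⟨μ, hμ, hμN, ?_⟩
      have hci : IsIntegral B c := IsIntegral.of_pow (by omega) (hc ▸ isIntegral_algebraMap)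
      obtain ⟨b, hb⟩ := IsIntegrallyClosed.isIntegral_iff.1 hci
      exact ⟨b, IsFractionRing.injective B K (by rw [map_pow, hb]; exact hc)⟩
    refine @NoZeroDivisors.to_isDomain _ _ _ ⟨fun {c d} hcd => ?_⟩
    obtain ⟨n, a, ha⟩ := S.hexp c
    obtain ⟨n', b, hb⟩ := S.hexp d
    let Pa : Polynomial B := ∑ i : Fin N, Polynomial.C (a i) * Polynomial.X ^ (i : ℕ)
    let Pb : Polynomial B := ∑ i : Fin N, Polynomial.C (b i) * Polynomial.X ^ (i : ℕ)
    have hdeg : ∀ e : Fin N → B, (∑ i, Polynomial.C (e i) * Polynomial.X ^ (i : ℕ) : Polynomial B).natDegree < N := fun e =>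
      lt_of_le_of_lt (natDegree_sum_le_of_forall_le (n := N - 1) _ _ fun i _ =>
        (natDegree_C_mul_X_pow_le _ _).trans (Nat.le_sub_one_of_lt i.2)) (Nat.sub_lt S.hN one_pos)
    have hPa : aeval t Pa = S.g ^ n • c := by rw [ha]; simp [Pa, Algebra.smul_def]
    have hPb : aeval t Pb = S.g ^ n' • d := by rw [hb]; simp [Pb, Algebra.smul_def]
    have hdvd : G ∣ Pa * Pb := by
      rw [← modByMonic_eq_zero_iff_dvd hG]
      refine hzero _ ?_ ?_
      · have := natDegree_modByMonic_lt (Pa * Pb) hG (fun h1 => by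
          have := congrArg natDegree h1
          rw [natDegree_X_pow_sub_C, natDegree_one] at this
          exact S.hN.ne' this)
        rwa [natDegree_X_pow_sub_C] at this
      · have h1 := congrArg (aeval t) (modByMonic_add_div (Pa * Pb) G)
        rw [map_add, map_mul, map_mul, hGt, zero_mul, add_zero, hPa, hPb, smul_mul_smul_comm, hcd, smul_zero] at h1
        exact h1
    have hz : ∀ P : Polynomial B, P.natDegree < N → G.map φ ∣ P.map φ → P = 0 := fun P hd h => by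
      refine (Polynomial.map_eq_zero_iff (IsFractionRing.injective B K)).1 ?_
      by_contra h0
      have h1 := natDegree_le_of_dvd h h0
      rw [hG.natDegree_map, natDegree_X_pow_sub_C, natDegree_map_eq_of_injective (IsFractionRing.injective B K)] at h1
      omega
    rcases hirr.prime.dvd_or_dvd (show G.map φ ∣ Pa.map φ * Pb.map φ by
        rw [← Polynomial.map_mul]; exact Polynomial.map_dvd _ hdvd) with h | h
    · left
      refine S.smul_eq_zero (pow_ne_zero n S.hg) ?_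
      rw [← hPa, hz Pa (hdeg a) h, map_zero]
    · right
      refine S.smul_eq_zero (pow_ne_zero n' S.hg) ?_
      rw [← hPb, hz Pb (hdeg b) h, map_zero]

variable {k : Type u} [Field k] {X Y : Scheme.{u}} (f0 : X ⟶ Spec (CommRingCat.of k)) [Smooth f0] [IsIntegral X]
variable {r : ℕ} {D : Fin r → X.IdealSheafData} {α : Fin r → ℕ}
variable {L : X.Modules} {N : ℕ} {s : Coh.structureModule X ⟶ CohB1.tensorPow L N} {π : Y ⟶ X}

include f0 in
/-- Preimages of nonempty opens are dense in the cover. -/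
theorem dense_preimage (hL : PicF.IsInvertible L) (hN : 0 < N) (R : CycCov.Root L N s π) (hR : CycCov.IsCover R)
    (U : X.Opens) [Nonempty U] : Dense ((π ⁻¹ᵁ U : Y.Opens) : Set Y) := by
  haveI : IsFinite π := hR.1
  haveI := NeronLib.isReduced_of_normal hR.2.1
  rw [dense_iff_inter_open]
  intro O hO ⟨y, hy⟩
  obtain ⟨V, hV, hyV, -⟩ := exists_isAffineOpen_mem_and_subset (x := π y) (U := ⊤) trivial
  haveI : Nonempty V := ⟨⟨_, hyV⟩⟩
  obtain ⟨h, hhle, hyh⟩ := (hV.preimage π).exists_basicOpen_le (V := ⟨O, hO⟩) ⟨y, hy⟩ hyV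
  obtain ⟨x₀, hx₀U, hx₀V⟩ := nonempty_preirreducible_inter U.isOpen V.isOpen
    (by obtain ⟨⟨a, ha⟩⟩ := ‹Nonempty U›; exact ⟨a, ha⟩) ⟨π y, hyV⟩
  obtain ⟨g, hgle, hx₀g⟩ := hV.exists_basicOpen_le (⟨x₀, hx₀U⟩ : U) hx₀V
  have hg : g ≠ 0 := fun h0 => by rw [h0, Scheme.basicOpen_zero] at hx₀g; exact hx₀g
  by_contra hempty
  have h0 : h * (π.app V).hom g = 0 := by
    rw [← basicOpen_eq_bot_iff, Scheme.basicOpen_mul]
    refine Opens.ext (Set.eq_empty_iff_forall_notMem.2 fun z hz => hempty ⟨z, hhle hz.1, ?_⟩)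
    have : z ∈ π ⁻¹ᵁ X.basicOpen g := by rw [Scheme.preimage_basicOpen]; exact hz.2
    exact hgle this
  have := eq_zero_of_mul_eq_zero hL hN R hR hV hg h0
  rw [this, Scheme.basicOpen_zero] at hyh
  exact hyh

include f0 in
theorem irreducibleSpace_iff (hL : PicF.IsInvertible L) (hN : 0 < N) (R : CycCov.Root L N s π) (hR : CycCov.IsCover R)
    {x : X} (Λ : LocalData D α s x) :
    IrreducibleSpace Y ↔ ¬ ∃ μ : ℕ, 1 < μ ∧ μ ∣ N ∧ ∃ c : Γ(X, Λ.U), c ^ μ = Λ.f := by
  haveI : IsFinite π := hR.1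
  haveI := NeronLib.isReduced_of_normal hR.2.1
  haveI : Nonempty Λ.U := ⟨⟨x, Λ.hxU⟩⟩
  haveI := NormalExtLib.isIntegrallyClosed_sections (FlatMorLocalStr.isNormalScheme_of_smooth_field f0) Λ.U Λ.hU
  letI := (π.app Λ.U).hom.toAlgebra
  obtain ⟨S, w, -⟩ := exists_basis_local f0 hL hN R hR Λ
  have hf0 : Λ.f ≠ 0 := by
    rw [Λ.hfac]
    exact mul_ne_zero Λ.u.ne_zero (Finset.prod_ne_zero_iff.2 fun j _ => pow_ne_zero _ (Λ.hv0 j))
  rw [← S.isDomain_iff hf0]
  have hVa : IsAffineOpen (π ⁻¹ᵁ Λ.U) := Λ.hU.preimage π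
  haveI hnt : Nontrivial Γ(Y, π ⁻¹ᵁ Λ.U) := ⟨⟨w ⟨0, hN⟩, 0, w.ne_zero _⟩⟩
  obtain ⟨⟨y₀, hy₀⟩⟩ : Nonempty (π ⁻¹ᵁ Λ.U) := by
    obtain ⟨p⟩ := (inferInstance : Nonempty (PrimeSpectrum Γ(Y, π ⁻¹ᵁ Λ.U)))
    exact ⟨⟨hVa.fromSpec p, hVa.range_fromSpec.le ⟨p, rfl⟩⟩⟩
  haveI : Nonempty (π ⁻¹ᵁ Λ.U) := ⟨⟨y₀, hy₀⟩⟩
  constructor
  · intro h
    haveI : IsIntegral Y := isIntegral_of_irreducibleSpace_of_isReduced Y
    exact IsIntegral.component_integral (π ⁻¹ᵁ Λ.U)
  · intro h
    haveI : IrreducibleSpace (PrimeSpectrum Γ(Y, π ⁻¹ᵁ Λ.U)) := inferInstance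
    have h1 : IsIrreducible (Set.univ.image hVa.fromSpec) :=
      (IrreducibleSpace.isIrreducible_univ (X := PrimeSpectrum Γ(Y, π ⁻¹ᵁ Λ.U))).image _ hVa.fromSpec.continuous.continuousOn
    rw [Set.image_univ, hVa.range_fromSpec] at h1
    have h2 := h1.closure
    rw [(dense_preimage f0 hL hN R hR Λ.U).closure_eq] at h2
    exact { toPreirreducibleSpace := ⟨h2.2⟩, toNonempty := ⟨y₀⟩ }

include f0 in
/-- Restriction of sections of an invertible module is injective on an integral scheme. -/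
theorem resM_injective {M : X.Modules} (hM : PicF.IsInvertible M) {U V : X.Opens} (h : V ≤ U) [hV : Nonempty V] :
    Function.Injective (resM M h) := by
  intro a b hab
  refine sec_ext M a b fun y hy => ?_
  obtain ⟨W, hyW, e, he⟩ := exists_isGen hM y
  refine ⟨U ⊓ W, inf_le_left, ⟨hy, hyW⟩, ?_⟩
  obtain ⟨⟨z₀, hz₀⟩⟩ := hV
  obtain ⟨z, hzU, hzV⟩ := nonempty_preirreducible_inter (U ⊓ W).isOpen V.isOpen ⟨y, hy, hyW⟩ ⟨z₀, hz₀⟩
  haveI : Nonempty ((U ⊓ W) ⊓ V : X.Opens) := ⟨⟨z, hzU, hzV⟩⟩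
  haveI : Nonempty (U ⊓ W : X.Opens) := ⟨⟨z, hzU⟩⟩
  have h1 := congrArg (resM M (inf_le_right : (U ⊓ W) ⊓ V ≤ V)) hab
  rw [resM_resM, resM_resM, ← resM_resM M (inf_le_left : U ⊓ W ≤ U) inf_le_left a,
    ← resM_resM M (inf_le_left : U ⊓ W ≤ U) inf_le_left b, ← he.coef_spec inf_le_right (resM M inf_le_left a),
    ← he.coef_spec inf_le_right (resM M inf_le_left b), resM_smul, resM_smul, resM_resM] at h1
  have h2 := (he _ (inf_le_left.trans inf_le_right)).1 h1
  rw [← he.coef_spec inf_le_right (resM M inf_le_left a), ← he.coef_spec inf_le_right (resM M inf_le_left b),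
    map_injective_of_isIntegral X (homOfLE (inf_le_left : (U ⊓ W) ⊓ V ≤ U ⊓ W)) h2]

include f0 in
/-- A `μ`-th root of the branch section in one chart extends to a global section. -/
theorem exists_root_section [IsAlgClosed k] (hL : PicF.IsInvertible L) (hNk : (N : k) ≠ 0)
    (hD : LogNCD.IsNCD D f0) (hs : CycCov.IsZeroDiv (CohB1.tensorPow L N) s (CycCov.divIdeal D α))
    {x : X} (Λ : LocalData D α s x) (μ : ℕ) (hμ : 1 < μ) (hμN : μ ∣ N) (c : Γ(X, Λ.U)) (hc : c ^ μ = Λ.f) :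
    ∃ s' : Coh.structureModule X ⟶ CohB1.tensorPow L (N / μ),
      ∀ (U : X.affineOpens) (e : L.val.obj (op U.1)), CycCov.IsGen L U.1 e →
        ∀ a b : Γ(X, U.1), SecTwist.val s U.1 = a • CycCov.lpow L U.1 e N →
          SecTwist.val s' U.1 = b • CycCov.lpow L U.1 e (N / μ) → a = b ^ μ := by
  classical
  set m := N / μ with hm
  have hmμ : m * μ = N := Nat.div_mul_cancel hμN
  choose Φ hΦ hΦc using fun y : X => exists_localData (L := L) (α := α) (s := s) f0 hL hNk hD hs y ⊤ trivial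
  -- transported roots
  have hroot : ∀ y : X, ∃ cy : Γ(X, (Φ y).U), cy ^ μ = (Φ y).f ∧
      resM (CohB1.tensorPow L m) (inf_le_left : (Φ y).U ⊓ Λ.U ≤ (Φ y).U) (cy • powSec (Φ y).e m) =
        resM (CohB1.tensorPow L m) (inf_le_right : (Φ y).U ⊓ Λ.U ≤ Λ.U) (c • powSec Λ.e m) := by
    intro y
    haveI : Nonempty (Φ y).U := ⟨⟨y, (Φ y).hxU⟩⟩
    haveI := NormalExtLib.isIntegrallyClosed_sections (FlatMorLocalStr.isNormalScheme_of_smooth_field f0) (Φ y).U (Φ y).hU
    haveI := functionField_isFractionRing_of_isAffineOpen X (Φ y).U (Φ y).hU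
    obtain ⟨z, hz, hz'⟩ := nonempty_preirreducible_inter (Φ y).U.isOpen Λ.U.isOpen ⟨y, (Φ y).hxU⟩ ⟨x, Λ.hxU⟩
    set I := (Φ y).U ⊓ Λ.U with hI
    haveI : Nonempty I := ⟨⟨z, hz, hz'⟩⟩
    have hyI : I ≤ (Φ y).U := inf_le_left
    have hΛI : I ≤ Λ.U := inf_le_right
    obtain ⟨l, hl⟩ := ((Φ y).he I hyI).2 (resM L hΛI Λ.e)
    have hg := isGen_powSec ((Φ y).he.restrict hyI) N I le_rfl
    simp only [resM_self] at hg
    have hv1 := val_res hΛI Λ.hf
    have hv2 := val_res hyI (Φ y).hf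
    rw [lpow_eq] at hv1 hv2
    rw [← hl, powSec_smul, smul_smul, hv2] at hv1
    have hff := hg.1 hv1
    have hpw : (res hΛI c * l ^ m) ^ μ = res hyI (Φ y).f := by
      rw [mul_pow, ← map_pow, hc, ← pow_mul, hmμ]; exact hff.symm
    let η := genericPoint X
    have hηI : η ∈ I := (genericPoint_specializes z).mem_open I.isOpen ⟨hz, hz'⟩
    let germI := (X.presheaf.germ I η hηI).hom
    have hgerm : ∀ r : Γ(X, (Φ y).U), germI (res hyI r) = algebraMap Γ(X, (Φ y).U) X.functionField r := fun r =>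
      X.presheaf.germ_res_apply (homOfLE hyI) η hηI r
    have hint : IsIntegral Γ(X, (Φ y).U) (germI (res hΛI c * l ^ m)) := by
      refine IsIntegral.of_pow (Nat.lt_of_lt_of_le one_pos hμ.le) ?_
      rw [← map_pow, hpw, hgerm]
      exact isIntegral_algebraMap
    obtain ⟨cy, hcy⟩ := IsIntegrallyClosed.isIntegral_iff.1 hint
    have hcyI : res hyI cy = res hΛI c * l ^ m :=
      germ_injective_of_isIntegral X η hηI ((hgerm cy).trans hcy)
    refine ⟨cy, map_injective_of_isIntegral X (homOfLE hyI) ((map_pow (res hyI) cy μ).trans (by rw [hcyI, hpw])), ?_⟩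
    rw [resM_smul, resM_smul, resM_powSec, resM_powSec, ← hl, powSec_smul, smul_smul, hcyI]
  choose cy hcy hcyres using hroot
  have hinv := AmpleLib.isInvertible_tensorPow hL m
  have hcov : (⊤ : X.Opens) ≤ ⨆ y, (Φ y).U := fun y _ => Opens.mem_iSup.2 ⟨y, (Φ y).hxU⟩
  obtain ⟨σ, hσ, -⟩ := TopCat.Sheaf.existsUnique_gluing' (⟨(CohB1.tensorPow L m).presheaf, (CohB1.tensorPow L m).isSheaf⟩ : TopCat.Sheaf Ab X)
    (fun y => (Φ y).U) ⊤ (fun y => homOfLE le_top) hcov (fun y => cy y • powSec (Φ y).e m) (fun y z => by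
      obtain ⟨w, hw1, hw2⟩ := nonempty_preirreducible_inter (Φ y).U.isOpen (Φ z).U.isOpen ⟨y, (Φ y).hxU⟩ ⟨z, (Φ z).hxU⟩
      obtain ⟨w', hw', hw'x⟩ := nonempty_preirreducible_inter ((Φ y).U ⊓ (Φ z).U).isOpen Λ.U.isOpen ⟨w, hw1, hw2⟩ ⟨x, Λ.hxU⟩
      haveI : Nonempty (((Φ y).U ⊓ (Φ z).U) ⊓ Λ.U : X.Opens) := ⟨⟨w', hw', hw'x⟩⟩
      refine resM_injective f0 hinv (inf_le_left : ((Φ y).U ⊓ (Φ z).U) ⊓ Λ.U ≤ (Φ y).U ⊓ (Φ z).U) ?_
      show resM _ _ (resM _ _ _) = resM _ _ (resM _ _ _)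
      rw [resM_resM, resM_resM]
      have h1 := congrArg (resM (CohB1.tensorPow L m) (show ((Φ y).U ⊓ (Φ z).U) ⊓ Λ.U ≤ (Φ y).U ⊓ Λ.U from
        inf_le_inf inf_le_left le_rfl)) (hcyres y)
      have h2 := congrArg (resM (CohB1.tensorPow L m) (show ((Φ y).U ⊓ (Φ z).U) ⊓ Λ.U ≤ (Φ z).U ⊓ Λ.U from
        inf_le_inf inf_le_right le_rfl)) (hcyres z)
      rw [resM_resM, resM_resM] at h1 h2
      exact h1.trans h2.symm)
  refine ⟨unitDesc _ σ, fun U e he a b ha hb => ?_⟩
  by_cases hU : Nonempty U.1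
  swap
  · haveI : IsEmpty U.1 := not_nonempty_iff.1 hU
    haveI : Subsingleton Γ(X, U.1) := by
      rw [show U.1 = ⊥ from Opens.ext (Set.eq_empty_iff_forall_notMem.2 fun z hz => hU ⟨⟨z, hz⟩⟩)]
      infer_instance
    exact Subsingleton.elim _ _
  obtain ⟨⟨z, hz⟩⟩ := id hU
  set I := U.1 ⊓ (Φ z).U with hI
  have hIU : I ≤ U.1 := inf_le_left
  have hIz : I ≤ (Φ z).U := inf_le_right
  haveI : Nonempty I := ⟨⟨z, hz, (Φ z).hxU⟩⟩
  obtain ⟨l, hl⟩ := ((Φ z).he I hIz).2 (resM L hIU e)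
  have hl0 : l ≠ 0 := fun h0 => by
    have he0 : resM L hIU e = resM L hIU 0 := by
      rw [← hl, h0]
      show (0 : Γ(X, I)) • _ = _
      rw [zero_smul]; exact (map_zero _).symm
    have he1 : e = 0 := resM_injective f0 hL hIU he0
    have h10 := he.1 (a₁ := (1 : Γ(X, U.1))) (a₂ := 0) (by simp [he1])
    exact one_ne_zero h10
  have hgN := isGen_powSec ((Φ z).he.restrict hIz) N I le_rfl
  have hgm := isGen_powSec ((Φ z).he.restrict hIz) m I le_rfl
  simp only [resM_self] at hgN hgm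
  have h1 := val_res hIU ha
  have h2 := val_res hIz (Φ z).hf
  rw [lpow_eq] at h1 h2
  rw [← hl, powSec_smul, smul_smul, h2] at h1
  have hA := hgN.1 h1
  have h3 : unitVal (unitDesc (CohB1.tensorPow L m) σ) U.1 = b • powSec e m := hb.trans (by rw [lpow_eq])
  rw [unitVal_unitDesc] at h3
  have h4 := congrArg (resM (CohB1.tensorPow L m) hIU) h3
  have h5 : resM (CohB1.tensorPow L m) (le_top : (Φ z).U ≤ ⊤) σ = cy z • powSec (Φ z).e m := hσ z
  rw [resM_resM, ← resM_resM _ (le_top : (Φ z).U ≤ ⊤) hIz, h5, resM_smul, resM_smul, resM_powSec, resM_powSec, ← hl,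
    powSec_smul, smul_smul] at h4
  have hB := hgm.1 h4
  refine map_injective_of_isIntegral X (homOfLE hIU) ?_
  show res hIU a = res hIU (b ^ μ)
  have h6 : res hIz (Φ z).f = res hIz (cy z) ^ μ := by rw [← map_pow, hcy]
  have e1 : res hIU a * l ^ N = res hIz (Φ z).f := by first | exact hA | exact hA.symm
  have e2 : res hIU b * l ^ m = res hIz (cy z) := by first | exact hB | exact hB.symm
  refine mul_right_cancel₀ (pow_ne_zero N hl0) ?_
  rw [map_pow, e1, h6, ← e2, mul_pow, ← pow_mul, hmμ]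

include f0 in
theorem not_irreducibleSpace_iff [IsAlgClosed k] (hL : PicF.IsInvertible L) (hN : 0 < N) (hNk : (N : k) ≠ 0)
    (hD : LogNCD.IsNCD D f0) (hs : CycCov.IsZeroDiv (CohB1.tensorPow L N) s (CycCov.divIdeal D α))
    (R : CycCov.Root L N s π) (hR : CycCov.IsCover R) :
    ¬ IrreducibleSpace Y ↔
      ∃ μ : ℕ, 1 < μ ∧ μ ∣ N ∧ ∃ s' : Coh.structureModule X ⟶ CohB1.tensorPow L (N / μ),
        ∀ (U : X.affineOpens) (e : L.val.obj (op U.1)), CycCov.IsGen L U.1 e →
          ∀ a b : Γ(X, U.1), SecTwist.val s U.1 = a • CycCov.lpow L U.1 e N →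
            SecTwist.val s' U.1 = b • CycCov.lpow L U.1 e (N / μ) → a = b ^ μ := by
  obtain ⟨Λ, -, -⟩ := exists_localData (L := L) (α := α) (s := s) f0 hL hNk hD hs (genericPoint X) ⊤ trivial
  rw [irreducibleSpace_iff f0 hL hN R hR Λ, not_not]
  constructor
  · rintro ⟨μ, hμ, hμN, c, hc⟩
    exact ⟨μ, hμ, hμN, exists_root_section f0 hL hNk hD hs Λ μ hμ hμN c hc⟩
  · rintro ⟨μ, hμ, hμN, s', hs'⟩
    have hg := isGen_powSec Λ.he (N / μ) Λ.U le_rfl
    simp only [resM_self] at hg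
    obtain ⟨b, hb⟩ := hg.2 (SecTwist.val s' Λ.U)
    exact ⟨μ, hμ, hμN, b, (hs' ⟨Λ.U, Λ.hU⟩ Λ.e (cycGen Λ.he) Λ.f b Λ.hf (by rw [lpow_eq]; exact hb.symm)).symm⟩

end Groth.Agent.CycCov28
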