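import Mathlib.RingTheory.Etale.Kaehler
import Mathlib.RingTheory.Smooth.Basic
import Mathlib.Algebra.MvPolynomial.PDeriv
import Mathlib.RingTheory.AdjoinRoot
import Mathlib.RingTheory.Localization.Away.Basic
import Mathlib.RingTheory.Ideal.Quotient.Nilpotent

/-!
# Etale coordinates on a root of a coordinate-like function

If `A` is etale over `k[X_σ]` through `c`, `δ` the derivation dual to the coordinate `e₀`, then on the locus
where `δ s` is invertible the algebra `A[W]/(W ^ n - s)` is etale over `k[X_σ]` through `c` with `c e₀` replaced by `W`.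
-/

set_option autoImplicit false
set_option linter.style.haveILetI false
set_option maxHeartbeats 1000000

universe u

open MvPolynomial

namespace Groth.Agent.CycCov28.KummerChart

variable {k A : Type u} [CommRing k] [CommRing A] [Algebra k A] {σ : Type u} [DecidableEq σ] (c : σ → A)

/-- The derivation dual to a coordinate. -/
theorem exists_dual_derivation
    (hc : letI := (aeval c : MvPolynomial σ k →ₐ[k] A).toRingHom.toAlgebra; Algebra.FormallyEtale (MvPolynomial σ k) A)
    (e₀ : σ) : ∃ δ : Derivation k A A, ∀ i, δ (c i) = if i = e₀ then 1 else 0 := by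
  classical
  letI : Algebra (MvPolynomial σ k) A := (aeval c : MvPolynomial σ k →ₐ[k] A).toRingHom.toAlgebra
  haveI : IsScalarTower k (MvPolynomial σ k) A := IsScalarTower.of_algebraMap_eq fun r => (aeval_C c r).symm
  haveI : Algebra.FormallyEtale (MvPolynomial σ k) A := hc
  let l : Ω[MvPolynomial σ k⁄k] →ₗ[MvPolynomial σ k] A :=
    (Algebra.linearMap (MvPolynomial σ k) A).comp (pderiv e₀).liftKaehlerDifferential
  let δ : Derivation k A A := ((l.liftBaseChange A).comp
    (KaehlerDifferential.tensorKaehlerEquivOfFormallyEtale k (MvPolynomial σ k) A).symm.toLinearMap).compDer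
      (KaehlerDifferential.D k A)
  refine ⟨δ, fun i => ?_⟩
  have h : c i = algebraMap (MvPolynomial σ k) A (X i) := (aeval_X c i).symm
  show (l.liftBaseChange A) ((KaehlerDifferential.tensorKaehlerEquivOfFormallyEtale k (MvPolynomial σ k) A).symm
    (KaehlerDifferential.D k A (c i))) = _
  rw [h, KaehlerDifferential.tensorKaehlerEquivOfFormallyEtale_symm_D_algebraMap, LinearMap.liftBaseChange_tmul, one_smul]
  show algebraMap (MvPolynomial σ k) A ((pderiv e₀).liftKaehlerDifferential (KaehlerDifferential.D k _ (X i))) = _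
  rw [Derivation.liftKaehlerDifferential_comp_D]
  by_cases hi : i = e₀
  · subst hi
    rw [pderiv_X_self, map_one, if_pos rfl]
  · rw [pderiv_X_of_ne hi, map_zero, if_neg hi]

variable {S : Type u} [CommRing S] [Algebra k S] (I : Ideal S) (hI : I ^ 2 = ⊥)

include hI in
theorem mul_eq_zero_of_mem {x y : S} (hx : x ∈ I) (hy : y ∈ I) : x * y = 0 := by
  have h : x * y ∈ I ^ 2 := pow_two I ▸ Ideal.mul_mem_mul hx hy
  rwa [hI, Ideal.mem_bot] at h

/-- Perturbation of an algebra map by a derivation. -/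
def perturb (δ : Derivation k A A) (χ : A →ₐ[k] S) (ε : S) (hε : ε * ε = 0) : A →ₐ[k] S where
  toFun a := χ a + ε * χ (δ a)
  map_one' := by simp
  map_mul' a b := by
    simp only [Derivation.leibniz, smul_eq_mul, map_add, map_mul]
    linear_combination (-(χ (δ a) * χ (δ b))) * hε
  map_zero' := by simp
  map_add' a b := by simp only [map_add]; ring
  commutes' r := by simp

@[simp] theorem perturb_apply (δ : Derivation k A A) (χ : A →ₐ[k] S) (ε : S) (hε : ε * ε = 0) (a : A) :
    perturb δ χ ε hε a = χ a + ε * χ (δ a) := rfl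

include hI in
/-- Change of the coordinate `e₀` to `s`. -/
theorem existsUnique_lift
    (hc : letI := (aeval c : MvPolynomial σ k →ₐ[k] A).toRingHom.toAlgebra; Algebra.FormallyEtale (MvPolynomial σ k) A)
    (e₀ : σ) (δ : Derivation k A A) (hδ : ∀ i, δ (c i) = if i = e₀ then 1 else 0) (s : A)
    (g : A →ₐ[k] S ⧸ I) (hu : IsUnit (g (δ s))) (b : σ → S)
    (hb : ∀ i, i ≠ e₀ → Ideal.Quotient.mk I (b i) = g (c i)) (hs : Ideal.Quotient.mk I (b e₀) = g s) :
    ∃! χ : A →ₐ[k] S, (Ideal.Quotient.mkₐ k I).comp χ = g ∧ (∀ i, i ≠ e₀ → χ (c i) = b i) ∧ χ s = b e₀ := by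
  classical
  letI algA : Algebra (MvPolynomial σ k) A := (aeval c : MvPolynomial σ k →ₐ[k] A).toRingHom.toAlgebra
  haveI : Algebra.FormallyEtale (MvPolynomial σ k) A := hc
  obtain ⟨β, hβ⟩ := Ideal.Quotient.mk_surjective (g (c e₀))
  let b' : σ → S := fun i => if i = e₀ then β else b i
  have hb' : ∀ i, Ideal.Quotient.mk I (b' i) = g (c i) := fun i => by
    by_cases h : i = e₀
    · subst h; simp only [b', if_pos, hβ]
    · simp only [b', if_neg h, hb i h]
  -- lifts with prescribed coordinates
  have key : ∀ v : σ → S, (∀ i, Ideal.Quotient.mk I (v i) = g (c i)) →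
      ∃! χ : A →ₐ[k] S, (Ideal.Quotient.mkₐ k I).comp χ = g ∧ ∀ i, χ (c i) = v i := by
    intro v hv
    letI algS : Algebra (MvPolynomial σ k) S := (aeval v : MvPolynomial σ k →ₐ[k] S).toRingHom.toAlgebra
    have hcomp : ∀ p : MvPolynomial σ k, g (aeval c p) = Ideal.Quotient.mk I (aeval v p) := fun p =>
      DFunLike.congr_fun (show g.comp (aeval c) = (Ideal.Quotient.mkₐ k I).comp (aeval v) from
        algHom_ext fun i => by simp [hv i]) p
    let φ : A →ₐ[MvPolynomial σ k] S ⧸ I := { g.toRingHom with commutes' := hcomp }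
    obtain ⟨χ, hχ⟩ := (Algebra.FormallyEtale.comp_bijective (MvPolynomial σ k) A I hI).2 φ
    have hχk : ∀ r : k, χ (algebraMap k A r) = algebraMap k S r := fun r => by
      have h : χ (aeval c (MvPolynomial.C r : MvPolynomial σ k)) = aeval v (MvPolynomial.C r) := χ.commutes _
      rw [aeval_C, aeval_C] at h
      exact h
    refine ⟨{ χ.toRingHom with commutes' := hχk }, ⟨AlgHom.ext fun a => DFunLike.congr_fun hχ a, fun i => ?_⟩, ?_⟩
    · have h : χ (aeval c (MvPolynomial.X i : MvPolynomial σ k)) = aeval v (MvPolynomial.X i) := χ.commutes _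
      rw [aeval_X, aeval_X] at h
      exact h
    · rintro χ' ⟨h1, h2⟩
      let χ'' : A →ₐ[MvPolynomial σ k] S :=
        { χ'.toRingHom with
          commutes' := fun p => DFunLike.congr_fun (show χ'.comp (aeval c) = aeval v from
            algHom_ext fun i => by simp [h2 i]) p }
      have := (Algebra.FormallyEtale.comp_bijective (MvPolynomial σ k) A I hI).1 (a₁ := χ'') (a₂ := χ)
        ((AlgHom.ext fun a => DFunLike.congr_fun h1 a : (Ideal.Quotient.mkₐ (MvPolynomial σ k) I).comp χ'' = φ).trans hχ.symm)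
      exact AlgHom.ext fun a => DFunLike.congr_fun this a
  obtain ⟨χ₀, ⟨hχ₀, hχ₀c⟩, -⟩ := key b' hb'
  have hq : ∀ a, Ideal.Quotient.mk I (χ₀ a) = g a := fun a => DFunLike.congr_fun hχ₀ a
  have hunit : IsUnit (χ₀ (δ s)) := by
    have h1 : IsUnit (Ideal.Quotient.mk I (χ₀ (δ s))) := by rw [hq]; exact hu
    exact (IsNilpotent.isUnit_quotient_mk_iff (I := I) ⟨2, hI⟩).1 h1
  obtain ⟨v, hv⟩ := hunit
  let ε : S := (b e₀ - χ₀ s) * ↑v⁻¹
  have hεI : ε ∈ I := Ideal.mul_mem_right _ _ (Ideal.Quotient.eq_zero_iff_mem.1 (by rw [map_sub, hs, hq, sub_self]))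
  have hε2 := mul_eq_zero_of_mem I hI hεI hεI
  refine ⟨perturb δ χ₀ ε hε2, ⟨AlgHom.ext fun a => ?_, fun i hi => ?_, ?_⟩, ?_⟩
  · show Ideal.Quotient.mk I (χ₀ a + ε * χ₀ (δ a)) = g a
    rw [map_add, map_mul, Ideal.Quotient.eq_zero_iff_mem.2 hεI, zero_mul, add_zero, hq]
  · rw [perturb_apply, hδ, if_neg hi, map_zero, mul_zero, add_zero, hχ₀c]
    exact if_neg hi
  · rw [perturb_apply, ← hv, show ε * (v : S) = b e₀ - χ₀ s by simp [ε, mul_assoc]]
    ring
  · rintro χ ⟨h1, h2, h3⟩
    have hq' : ∀ a, Ideal.Quotient.mk I (χ a) = g a := fun a => DFunLike.congr_fun h1 a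
    let ε' : S := χ (c e₀) - β
    have hε'I : ε' ∈ I := Ideal.Quotient.eq_zero_iff_mem.1 (by rw [map_sub, hq', hβ, sub_self])
    have hε'2 := mul_eq_zero_of_mem I hI hε'I hε'I
    have hχ : χ = perturb δ χ₀ ε' hε'2 := by
      obtain ⟨χ₁, -, huniq⟩ := key (fun i => χ (c i)) fun i => hq' _
      rw [huniq χ ⟨h1, fun _ => rfl⟩]
      refine (huniq _ ⟨AlgHom.ext fun a => ?_, fun i => ?_⟩).symm
      · show Ideal.Quotient.mk I (χ₀ a + ε' * χ₀ (δ a)) = g a
        rw [map_add, map_mul, Ideal.Quotient.eq_zero_iff_mem.2 hε'I, zero_mul, add_zero, hq]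
      · rw [perturb_apply, hδ, hχ₀c]
        by_cases hi : i = e₀
        · subst hi
          rw [if_pos rfl, map_one, mul_one]
          show (if i = i then β else b i) + (χ (c i) - β) = χ (c i)
          rw [if_pos rfl]; ring
        · rw [if_neg hi, map_zero, mul_zero, add_zero]
          show (if i = e₀ then β else b i) = χ (c i)
          rw [if_neg hi, h2 i hi]
    have hεε : ε' = ε := by
      have h4 : χ₀ s + ε' * v = b e₀ := by rw [hv, ← perturb_apply δ χ₀ ε' hε'2, ← hχ, h3]
      show ε' = (b e₀ - χ₀ s) * ↑v⁻¹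
      rw [← h4, add_sub_cancel_left, mul_assoc, Units.mul_inv, mul_one]
    refine AlgHom.ext fun a => ?_
    rw [hχ, perturb_apply, perturb_apply, hεε]

end Groth.Agent.CycCov28.KummerChart

namespace Groth.Agent.CycCov28.KummerChart

variable {k A C : Type u} [CommRing k] [CommRing A] [Algebra k A] [CommRing C] [Algebra k C]
  {σ : Type u} [DecidableEq σ] (c : σ → A)

/-- The new coordinates. -/
def coords (e₀ : σ) (ι : A →ₐ[k] C) (w : C) (i : σ) : C := if i = e₀ then w else ι (c i)

open Polynomial in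
/-- `A[W]/(W ^ n - s)` is formally etale over the new coordinates where `δ s` is invertible. -/
theorem formallyEtale_root
    (hc : letI := (MvPolynomial.aeval c : MvPolynomial σ k →ₐ[k] A).toRingHom.toAlgebra
      Algebra.FormallyEtale (MvPolynomial σ k) A)
    (e₀ : σ) (δ : Derivation k A A) (hδ : ∀ i, δ (c i) = if i = e₀ then 1 else 0) (n : ℕ) (s : A)
    (e : AdjoinRoot (Polynomial.X ^ n - Polynomial.C s) ≃ₐ[k] C) (Ch : Type u) [CommRing Ch] [Algebra k Ch] [Algebra C Ch]
    [IsScalarTower k C Ch] [IsLocalization.Away (e (AdjoinRoot.of _ (δ s))) Ch] :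
    letI := (MvPolynomial.aeval (fun i => algebraMap C Ch
      (if i = e₀ then e (AdjoinRoot.root _) else e (AdjoinRoot.of _ (c i)))) : MvPolynomial σ k →ₐ[k] Ch).toRingHom.toAlgebra
    Algebra.FormallyEtale (MvPolynomial σ k) Ch := by
  classical
  let G := Polynomial.X ^ n - Polynomial.C s
  let h : C := e (AdjoinRoot.of G (δ s))
  let cc : σ → Ch := fun i => algebraMap C Ch (if i = e₀ then e (AdjoinRoot.root _) else e (AdjoinRoot.of _ (c i)))
  letI algCh : Algebra (MvPolynomial σ k) Ch := (MvPolynomial.aeval cc : MvPolynomial σ k →ₐ[k] Ch).toRingHom.toAlgebra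
  rw [Algebra.FormallyEtale.iff_comp_bijective]
  intro S _ _ I hI
  let b : σ → S := fun i => algebraMap (MvPolynomial σ k) S (MvPolynomial.X i)
  letI algkS : Algebra k S := ((algebraMap (MvPolynomial σ k) S).comp (MvPolynomial.C)).toAlgebra
  -- the composite `A → Ch`
  let ι : A →ₐ[k] Ch := (IsScalarTower.toAlgHom k C Ch).comp (e.toAlgHom.comp
    ({ AdjoinRoot.of G with commutes' := fun _ => rfl } : A →ₐ[k] AdjoinRoot G))
  have hιc : ∀ i, i ≠ e₀ → algebraMap (MvPolynomial σ k) Ch (MvPolynomial.X i) = ι (c i) := fun i hi => by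
    refine (MvPolynomial.aeval_X cc i).trans ?_
    simp only [cc, if_neg hi]
    rfl
  have hroot : algebraMap (MvPolynomial σ k) Ch (MvPolynomial.X e₀) ^ n = ι s := by
    rw [show algebraMap (MvPolynomial σ k) Ch (MvPolynomial.X e₀) = algebraMap C Ch (e (AdjoinRoot.root G)) from
      (MvPolynomial.aeval_X cc e₀).trans (by simp [cc, G]), ← map_pow, ← map_pow]
    have h0 := AdjoinRoot.eval₂_root G
    rw [Polynomial.eval₂_sub, Polynomial.eval₂_X_pow, Polynomial.eval₂_C, sub_eq_zero] at h0
    rw [h0]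
    rfl
  have hconst : ∀ r : k, algebraMap (MvPolynomial σ k) Ch (MvPolynomial.C r) = algebraMap k Ch r := fun r =>
    MvPolynomial.aeval_C cc r
  have hιu : IsUnit (ι (δ s)) := IsLocalization.Away.algebraMap_isUnit h
  let bA : σ → S := fun i => if i = e₀ then b e₀ ^ n else b i
  -- restriction of a lift
  have hres : ∀ (χ : Ch →ₐ[MvPolynomial σ k] S) (r : k), χ (ι (algebraMap k A r)) = algebraMap k S r := fun χ r => by
    rw [ι.commutes, ← hconst, χ.commutes]
    rfl
  have hgen : ∀ (χ χ' : Ch →ₐ[MvPolynomial σ k] S), (∀ a, χ (ι a) = χ' (ι a)) → χ = χ' := fun χ χ' hh => by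
    refine AlgHom.ext fun x => ?_
    have hC : χ.toRingHom.comp (algebraMap C Ch) = χ'.toRingHom.comp (algebraMap C Ch) := by
      refine RingHom.ext fun y => ?_
      obtain ⟨z, rfl⟩ := e.surjective y
      obtain ⟨q, rfl⟩ := AdjoinRoot.mk_surjective z
      induction q using Polynomial.induction_on' with
      | add p q hp hq =>
        simp only [RingHom.comp_apply, map_add] at hp hq ⊢
        rw [hp, hq]
      | monomial m a =>
        rw [← Polynomial.C_mul_X_pow_eq_monomial, map_mul, map_pow, AdjoinRoot.mk_C, AdjoinRoot.mk_X, map_mul, map_pow]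
        simp only [RingHom.comp_apply, map_mul, map_pow]
        have hw : χ (algebraMap C Ch (e (AdjoinRoot.root G))) = χ' (algebraMap C Ch (e (AdjoinRoot.root G))) := by
          rw [show algebraMap C Ch (e (AdjoinRoot.root G)) = algebraMap (MvPolynomial σ k) Ch (MvPolynomial.X e₀) from
            ((MvPolynomial.aeval_X cc e₀).trans (by simp [cc, G])).symm, χ.commutes, χ'.commutes]
        exact congrArg₂ (· * ·) (hh a) (congrArg (· ^ m) hw)
    exact DFunLike.congr_fun (IsLocalization.ringHom_ext (Submonoid.powers h) hC) x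
  refine ⟨fun χ χ' hχ => hgen χ χ' fun a => ?_, fun g => ?_⟩
  · let gA : A →ₐ[k] S ⧸ I :=
      { ((Ideal.Quotient.mk I).comp χ.toRingHom).comp ι.toRingHom with
        commutes' := fun r => congrArg (Ideal.Quotient.mk I) (hres χ r) }
    let χA : (Ch →ₐ[MvPolynomial σ k] S) → (A →ₐ[k] S) := fun ψ => { ψ.toRingHom.comp ι.toRingHom with commutes' := hres ψ }
    have hu : IsUnit (gA (δ s)) := (hιu.map χ).map (Ideal.Quotient.mk I)
    obtain ⟨χ₁, -, huniq⟩ := existsUnique_lift c I hI hc e₀ δ hδ s gA hu bA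
      (fun i hi => by
        simp only [bA, if_neg hi]
        exact congrArg (Ideal.Quotient.mk I) ((χ.commutes _).symm.trans (congrArg χ (hιc i hi))))
      (by
        simp only [bA, if_pos]
        refine congrArg (Ideal.Quotient.mk I) ?_
        exact (congrArg (· ^ n) (χ.commutes _).symm).trans (((map_pow χ _ n).symm).trans (congrArg χ hroot)))
    have hsat : ∀ ψ : Ch →ₐ[MvPolynomial σ k] S, (∀ a, Ideal.Quotient.mk I (ψ (ι a)) = Ideal.Quotient.mk I (χ (ι a))) →
        χA ψ = χ₁ := fun ψ hψ => huniq _ ⟨AlgHom.ext hψ, fun i hi => by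
      simp only [bA, if_neg hi]
      exact (congrArg ψ (hιc i hi)).symm.trans (ψ.commutes _), by
      simp only [bA, if_pos]
      exact (congrArg ψ hroot).symm.trans ((map_pow ψ _ n).trans (congrArg (· ^ n) (ψ.commutes _)))⟩
    exact DFunLike.congr_fun ((hsat χ fun _ => rfl).trans (hsat χ' fun a => (DFunLike.congr_fun hχ (ι a)).symm).symm) a
  · let gA : A →ₐ[k] S ⧸ I :=
      { g.toRingHom.comp ι.toRingHom with
        commutes' := fun r => by
          show g (ι (algebraMap k A r)) = _
          rw [ι.commutes, ← hconst, g.commutes]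
          rfl }
    have hu : IsUnit (gA (δ s)) := hιu.map g
    obtain ⟨χ₁, ⟨h1, h2, h3⟩, -⟩ := existsUnique_lift c I hI hc e₀ δ hδ s gA hu bA
      (fun i hi => by
        simp only [bA, if_neg hi]
        exact (g.commutes _).symm.trans (congrArg g (hιc i hi)))
      (by
        simp only [bA, if_pos]
        exact (map_pow (Ideal.Quotient.mk I) _ n).trans ((congrArg (· ^ n) (g.commutes _).symm).trans
          (((map_pow g _ n).symm).trans (congrArg g hroot))))
    let ψC : C →+* S := (AdjoinRoot.lift χ₁.toRingHom (b e₀) (by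
      rw [Polynomial.eval₂_sub, Polynomial.eval₂_X_pow, Polynomial.eval₂_C]
      simp only [AlgHom.toRingHom_eq_coe, RingHom.coe_coe]
      rw [h3]
      simp [bA] : Polynomial.eval₂ χ₁.toRingHom (b e₀) G = 0)).comp e.symm.toRingEquiv.toRingHom
    have hψof : ∀ a, ψC (e (AdjoinRoot.of G a)) = χ₁ a := fun a => by
      simp [ψC]
    have hψroot : ψC (e (AdjoinRoot.root G)) = b e₀ := by simp [ψC]
    have hψu : IsUnit (ψC h) := by
      rw [hψof]
      refine (IsNilpotent.isUnit_quotient_mk_iff (I := I) ⟨2, hI⟩).1 ?_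
      rw [show Ideal.Quotient.mk I (χ₁ (δ s)) = gA (δ s) from DFunLike.congr_fun h1 _]
      exact hu
    let ψ : Ch →+* S := IsLocalization.Away.lift h hψu
    have hψC : ∀ y, ψ (algebraMap C Ch y) = ψC y := fun y => IsLocalization.Away.lift_eq h hψu y
    have hψι : ∀ a, ψ (ι a) = χ₁ a := fun a => (hψC _).trans (hψof a)
    have hcomm : ψ.comp (algebraMap (MvPolynomial σ k) Ch) = algebraMap (MvPolynomial σ k) S := by
      refine MvPolynomial.ringHom_ext (fun r => ?_) fun i => ?_
      · show ψ (algebraMap (MvPolynomial σ k) Ch (MvPolynomial.C r)) = _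
        rw [hconst, ← ι.commutes, hψι, χ₁.commutes]
        rfl
      · by_cases hi : i = e₀
        · subst hi
          show ψ (algebraMap (MvPolynomial σ k) Ch (MvPolynomial.X i)) = _
          rw [show algebraMap (MvPolynomial σ k) Ch (MvPolynomial.X i) = algebraMap C Ch (e (AdjoinRoot.root G)) from
            (MvPolynomial.aeval_X cc i).trans (by simp [cc, G]), hψC, hψroot]
        · show ψ (algebraMap (MvPolynomial σ k) Ch (MvPolynomial.X i)) = _
          rw [hιc i hi, hψι, h2 i hi]
          simp [bA, hi, b]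
    refine ⟨{ ψ with commutes' := fun p => DFunLike.congr_fun hcomm p }, AlgHom.ext fun x => ?_⟩
    refine DFunLike.congr_fun (IsLocalization.ringHom_ext (Submonoid.powers h) (R := C) (j := (Ideal.Quotient.mk I).comp ψ)
      (k := g.toRingHom) (RingHom.ext fun y => ?_)) x
    obtain ⟨z, rfl⟩ := e.surjective y
    obtain ⟨q, rfl⟩ := AdjoinRoot.mk_surjective z
    simp only [RingHom.comp_apply]
    rw [hψC]
    induction q using Polynomial.induction_on' with
    | add p q hp hq => simp only [map_add] at hp hq ⊢; rw [hp, hq]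
    | monomial m a =>
      rw [← Polynomial.C_mul_X_pow_eq_monomial, map_mul, map_pow, AdjoinRoot.mk_C, AdjoinRoot.mk_X, map_mul, map_pow]
      simp only [map_mul, map_pow, hψof, hψroot]
      rw [hψof a, hψroot]
      refine congrArg₂ (· * ·) (DFunLike.congr_fun h1 a) (congrArg (· ^ m) ?_)
      show _ = g (algebraMap C Ch (e (AdjoinRoot.root G)))
      rw [show algebraMap C Ch (e (AdjoinRoot.root G)) = algebraMap (MvPolynomial σ k) Ch (MvPolynomial.X e₀) from
        ((MvPolynomial.aeval_X cc e₀).trans (by simp [cc, G])).symm, g.commutes]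
      rfl

end Groth.Agent.CycCov28.KummerChart
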