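import Groth.Agent.CycCov28.Setup
import Groth.Agent.Kummer10.Chart
import Groth.Prelude.Def_LogNCD
import Groth.Agent.HenselLib.EtaleReduced
import Mathlib.Algebra.MvPolynomial.Division
import Mathlib.RingTheory.TensorProduct.Quotient
import Mathlib.RingTheory.Polynomial.UniqueFactorization

/-!
# Local equations of a normal crossings divisor and of the branch section
-/

set_option autoImplicit false
set_option linter.style.haveILetI false
set_option linter.unusedSectionVars false
set_option backward.isDefEq.respectTransparency false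
set_option backward.isDefEq.respectTransparency.types false
set_option maxHeartbeats 800000

universe u

open CategoryTheory CategoryTheory.Limits AlgebraicGeometry Opposite TopologicalSpace
open Groth.Agent.Coherent Groth.Agent.PicLib Groth.Agent.AmpleLib
open scoped TensorProduct

namespace Groth.Agent.CycCov28

variable {k : Type u} [Field k] {X : Scheme.{u}} (f0 : X ⟶ Spec (CommRingCat.of k))

/-- The structure map on functions. -/
noncomputable def constHom (U : X.Opens) : k →+* Γ(X, U) :=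
  ((Scheme.ΓSpecIso (CommRingCat.of k)).inv ≫ f0.appLE ⊤ U le_top).hom

/-- Affine étale coordinates adapted to the components through a point. -/
theorem exists_chart {r : ℕ} (D : Fin r → X.IdealSheafData) (hD : LogNCD.IsNCD D f0) (x : X)
    (hx : Nonempty (LogNCD.Through D x)) (O : X.Opens) (hxO : x ∈ O) :
    ∃ (U : X.Opens) (hU : IsAffineOpen U), x ∈ U ∧ U ≤ O ∧
      ∃ (n : ℕ) (v : ULift.{u} (Fin n) → Γ(X, U)) (e : LogNCD.Through D x → ULift.{u} (Fin n)), Function.Injective e ∧
        (MvPolynomial.eval₂Hom (constHom f0 U) v).Etale ∧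
        (∀ i, (D i.1).ideal ⟨U, hU⟩ = Ideal.span {v (e i)}) ∧
        (∀ i, x ∉ (D i).support → (D i).ideal ⟨U, hU⟩ = ⊤) := by
  obtain ⟨W, hxW, n, v, e, he, het, hv, hv'⟩ := hD x hx
  obtain ⟨U, hU, hxU, hUle⟩ := exists_isAffineOpen_mem_and_subset (x := x) (U := W ⊓ O) ⟨hxW, hxO⟩
  have hUW : U ≤ W := fun z hz => (hUle hz).1
  haveI : IsAffine U.toScheme := hU
  let g := AffineSpace.homOfVector (W.ι ≫ f0) v
  let w : ULift.{u} (Fin n) → Γ(U, ⊤) := fun s => (X.homOfLE hUW).appTop (v s)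
  let h := AffineSpace.homOfVector (U.ι ≫ f0) w
  have hh : h = X.homOfLE hUW ≫ g := by
    apply AffineSpace.hom_ext
    · simp [h, g]
    · intro i
      simp [h, g, w]
  haveI : Etale g := het
  haveI : Etale h := by rw [hh]; infer_instance
  have h1 := Kummer10.eval₂Hom_etale_of_affine (U.ι ≫ f0) w
  let eU := U.topIso.commRingCatIsoToRingEquiv
  let ek := (Scheme.ΓSpecIso (CommRingCat.of k)).commRingCatIsoToRingEquiv
  refine ⟨U, hU, hxU, fun z hz => (hUle hz).2, n, fun s => U.topIso.hom (w s),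
    fun i => ULift.up (e i), fun i j hij => he (congrArg ULift.down hij), ?_, fun i => ?_, fun i hi => hv' i hi ⟨U, hU⟩ hUW⟩
  · have heq : MvPolynomial.eval₂Hom (constHom f0 U) (fun s => U.topIso.hom (w s)) =
        eU.toRingHom.comp ((MvPolynomial.eval₂Hom (U.ι ≫ f0).appTop.hom w).comp
          (MvPolynomial.mapEquiv (ULift.{u} (Fin n)) ek.symm).toRingHom) := by
      refine MvPolynomial.ringHom_ext (fun r => ?_) fun s => ?_
      · simp only [RingHom.comp_apply, MvPolynomial.eval₂Hom_C, RingEquiv.toRingHom_eq_coe, RingHom.coe_coe,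
          MvPolynomial.mapEquiv_apply, MvPolynomial.map_C]
        show (f0.appLE ⊤ U le_top) ((Scheme.ΓSpecIso (CommRingCat.of k)).inv r) =
          U.topIso.hom ((U.ι ≫ f0).appTop ((Scheme.ΓSpecIso (CommRingCat.of k)).inv r))
        simp only [Scheme.Hom.comp_appTop, CommRingCat.comp_apply, ← CommRingCat.comp_apply]
        simp [Scheme.Hom.appLE, Scheme.Hom.appTop, Scheme.Opens.topIso, ← Functor.map_comp]
      · simp [eU]
    rw [heq]
    exact RingHom.Etale.respectsIso.1 _ eU (RingHom.Etale.respectsIso.2 _ _ h1)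
  · rw [hv i ⟨U, hU⟩ hUW]
    congr 2
    simp [w, LogNCD.sectOn, Scheme.Hom.appTop, Scheme.Opens.topIso, ← CommRingCat.comp_apply, ← Functor.map_comp]

theorem isRadical_map_of_etale {A B : Type u} [CommRing A] [CommRing B] [Algebra A B] [Algebra.Etale A B]
    (J : Ideal A) (hJ : J.IsRadical) : (J.map (algebraMap A B)).IsRadical := by
  haveI : IsReduced (A ⧸ J) := (Ideal.isRadical_iff_quotient_reduced J).1 hJ
  haveI : IsReduced ((A ⧸ J) ⊗[A] B) := HenselLib.isReduced_of_etale (A ⧸ J) _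
  rw [Ideal.isRadical_iff_quotient_reduced]
  let ε₁ := (Algebra.TensorProduct.quotIdealMapEquivTensorQuot B J).toRingEquiv
  let ε₂ := (Algebra.TensorProduct.comm A B (A ⧸ J)).toRingEquiv
  exact isReduced_of_injective (ε₁.trans ε₂) (RingEquiv.injective _)

theorem prod_primes_dvd' {A : Type*} [CommRing A] [IsDomain A] {ι : Type*} [Fintype ι] (p : ι → A) (q : A)
    (hp : ∀ i, Prime (p i)) (hq : ∀ i, p i ∣ q) (hd : ∀ i j, p i ∣ p j → i = j) : ∏ i, p i ∣ q := by
  classical
  induction (Finset.univ : Finset ι) using Finset.induction_on with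
  | empty => simp
  | insert i t hi ih =>
    obtain ⟨c, rfl⟩ := ih
    rw [Finset.prod_insert hi, mul_comm (p i)]
    refine mul_dvd_mul_left _ (((hp i).dvd_or_dvd (hq i)).resolve_left fun h => ?_)
    obtain ⟨j, hj, hij⟩ := (hp i).exists_mem_finset_dvd h
    exact hi (hd i j hij ▸ hj)

/-- Products of distinct coordinates. -/
theorem isRadical_prod_coord {B : Type u} [CommRing B] {σ : Type u} {ι : Type*} [Fintype ι] (φ : MvPolynomial σ k →+* B)
    (hφ : φ.Etale) (e : ι → σ) (he : Function.Injective e) :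
    (Ideal.span {∏ i, φ (MvPolynomial.X (e i))}).IsRadical := by
  classical
  letI : Algebra (MvPolynomial σ k) B := φ.toAlgebra
  haveI : Algebra.Etale (MvPolynomial σ k) B := RingHom.etale_algebraMap.1 hφ
  let J : Ideal (MvPolynomial σ k) := Ideal.span {∏ i, MvPolynomial.X (e i)}
  have hJ : J.IsRadical := fun p hp => by
    obtain ⟨m, hm⟩ := hp
    rw [Ideal.mem_span_singleton] at hm ⊢
    exact prod_primes_dvd' (fun i => MvPolynomial.X (e i)) p (fun i => MvPolynomial.X_prime)
      (fun i => MvPolynomial.X_prime.dvd_of_dvd_pow ((Finset.dvd_prod_of_mem _ (Finset.mem_univ i)).trans hm))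
      fun i j h => he (MvPolynomial.X_dvd_X.1 h)
  have hJB : J.map (algebraMap (MvPolynomial σ k) B) = Ideal.span {∏ i, φ (MvPolynomial.X (e i))} := by
    rw [Ideal.map_span, Set.image_singleton, map_prod]
    rfl
  exact hJB ▸ isRadical_map_of_etale J hJ

theorem coord_ne_zero {B : Type u} [CommRing B] [Nontrivial B] {σ : Type u} (φ : MvPolynomial σ k →+* B)
    (hφ : φ.Etale) (p : MvPolynomial σ k) (hp : p ≠ 0) : φ p ≠ 0 := by
  letI : Algebra (MvPolynomial σ k) B := φ.toAlgebra
  haveI : Algebra.Etale (MvPolynomial σ k) B := RingHom.etale_algebraMap.1 hφ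
  intro h0
  have h := (Module.Flat.isSMulRegular_of_isRegular (M := B) (isRegular_iff_ne_zero.2 hp))
    (show p • (1 : B) = p • (0 : B) by rw [smul_zero, Algebra.smul_def, mul_one]; exact h0)
  exact one_ne_zero h

/-- An ideal sheaf is trivial on affines missing its support. -/
theorem ideal_eq_top {I : X.IdealSheafData} (U : X.affineOpens) (h : ∀ y ∈ U.1, y ∉ I.support) : I.ideal U = ⊤ := by
  rw [← PrimeSpectrum.zeroLocus_empty_iff_eq_top, Set.eq_empty_iff_forall_notMem]
  intro p hp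
  have h1 : U.2.fromSpec p ∈ X.zeroLocus (U := U.1) (I.ideal U : Set Γ(X, U.1)) ∩ U.1 := by
    rw [← U.2.fromSpec_image_zeroLocus]
    exact ⟨p, hp, rfl⟩
  rw [← I.coe_support_inter] at h1
  exact h _ h1.2 h1.1

variable {r : ℕ} (D : Fin r → X.IdealSheafData) (α : Fin r → ℕ)
variable {L : X.Modules} {N : ℕ} (s : Coh.structureModule X ⟶ CohB1.tensorPow L N)

noncomputable instance fintypeThrough (x : X) : Fintype (LogNCD.Through D x) :=
  haveI : Finite (LogNCD.Through D x) := by unfold LogNCD.Through; infer_instance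
  Fintype.ofFinite _

/-- A frame and local equations near a point. -/
structure LocalData (x : X) where
  U : X.Opens
  hU : IsAffineOpen U
  hxU : x ∈ U
  e : Γ(L, U)
  he : IsGen L U e
  f : Γ(X, U)
  hf : SecTwist.val s U = f • CycCov.lpow L U e N
  v : LogNCD.Through D x → Γ(X, U)
  hv0 : ∀ j, v j ≠ 0
  hrad : (Ideal.span {∏ j, v j}).IsRadical
  hD : ∀ j : LogNCD.Through D x, (D j.1).ideal ⟨U, hU⟩ = Ideal.span {v j}
  hDtop : ∀ j, x ∉ (D j).support → (D j).ideal ⟨U, hU⟩ = ⊤
  u : Γ(X, U)ˣ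
  hfac : f = u * ∏ j, v j ^ α j.1
  hNu : IsUnit (N : Γ(X, U))
  ζ : Γ(X, U)
  hζ : IsPrimitiveRoot ζ N


variable {D α s}

theorem exists_localData [IsAlgClosed k] [IsIntegral X] (hL : PicF.IsInvertible L) (hNk : (N : k) ≠ 0)
    (hD : LogNCD.IsNCD D f0) (hs : CycCov.IsZeroDiv (CohB1.tensorPow L N) s (CycCov.divIdeal D α)) (x : X)
    (O : X.Opens) (hxO : x ∈ O) : ∃ Λ : LocalData D α s x, Λ.U ≤ O ∧ (Nonempty (LogNCD.Through D x) →
      ∃ (n : ℕ) (c : ULift.{u} (Fin n) → Γ(X, Λ.U)) (e : LogNCD.Through D x → ULift.{u} (Fin n)), Function.Injective e ∧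
        (MvPolynomial.eval₂Hom (constHom f0 Λ.U) c).Etale ∧ ∀ j, c (e j) = Λ.v j) := by
  classical
  obtain ⟨V, hxV, e₁, he₁⟩ := exists_isGen hL x
  obtain ⟨U, hU, hxU, hUO, v, hv0, hrad, hvD, hvtop, hcoord⟩ : ∃ (U : X.Opens) (hU : IsAffineOpen U), x ∈ U ∧ U ≤ O ⊓ V ∧
      ∃ v : LogNCD.Through D x → Γ(X, U), (∀ j, v j ≠ 0) ∧ (Ideal.span {∏ j, v j}).IsRadical ∧
        (∀ j : LogNCD.Through D x, (D j.1).ideal ⟨U, hU⟩ = Ideal.span {v j}) ∧
        (∀ j, x ∉ (D j).support → (D j).ideal ⟨U, hU⟩ = ⊤) ∧ (Nonempty (LogNCD.Through D x) →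
          ∃ (n : ℕ) (c : ULift.{u} (Fin n) → Γ(X, U)) (e : LogNCD.Through D x → ULift.{u} (Fin n)), Function.Injective e ∧
            (MvPolynomial.eval₂Hom (constHom f0 U) c).Etale ∧ ∀ j, c (e j) = v j) := by
    by_cases hne : Nonempty (LogNCD.Through D x)
    · obtain ⟨U, hU, hxU, hle, σ, v, e, he, het, h1, h2⟩ := exists_chart f0 D hD x hne (O ⊓ V) ⟨hxO, hxV⟩
      haveI : Nonempty U := ⟨⟨x, hxU⟩⟩
      refine ⟨U, hU, hxU, hle, fun j => v (e j), fun j => ?_, ?_, h1, h2, fun _ => ⟨σ, v, e, he, het, fun _ => rfl⟩⟩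
      · have := coord_ne_zero (MvPolynomial.eval₂Hom (constHom f0 U) v) het (MvPolynomial.X (e j)) (MvPolynomial.X_ne_zero _)
        rwa [MvPolynomial.eval₂Hom_X'] at this
      · have := isRadical_prod_coord (MvPolynomial.eval₂Hom (constHom f0 U) v) het e he
        simpa only [MvPolynomial.eval₂Hom_X'] using this
    · have hno : ∀ j, x ∉ (D j).support := fun j hj => hne ⟨⟨j, hj⟩⟩
      let T : X.Opens := ⨅ j : Fin r, (D j).support.compl
      have hxT : x ∈ (T : Set X) := by
        show x ∈ ((⨅ j : Fin r, (D j).support.compl : X.Opens) : Set X)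
        rw [Opens.coe_iInf]
        exact Set.mem_iInter.2 hno
      obtain ⟨U, hU, hxU, hle⟩ := exists_isAffineOpen_mem_and_subset (x := x) (U := (O ⊓ V) ⊓ T) ⟨⟨hxO, hxV⟩, hxT⟩
      refine ⟨U, hU, hxU, fun z hz => (hle hz).1, fun j => (hne ⟨j⟩).elim, fun j => (hne ⟨j⟩).elim, ?_,
        fun j => (hne ⟨j⟩).elim, fun j _ => ideal_eq_top ⟨U, hU⟩ fun y hy => ?_, fun h => (hne h).elim⟩
      · haveI : IsEmpty (LogNCD.Through D x) := not_nonempty_iff.1 hne
        rw [Finset.univ_eq_empty, Finset.prod_empty, Ideal.span_singleton_one]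
        exact fun _ _ => Submodule.mem_top
      · exact (iInf_le (fun j : Fin r => (D j).support.compl) j) (hle hy).2
  haveI : Nonempty U := ⟨⟨x, hxU⟩⟩
  let e := resM L (fun z hz => (hUO hz).2 : U ≤ V) e₁
  have he : IsGen L U e := he₁.restrict _
  have hg := isGen_powSec he N U le_rfl
  simp only [resM_self] at hg
  obtain ⟨f, hf⟩ := hg.2 (SecTwist.val s U)
  have hf' : SecTwist.val s U = f • CycCov.lpow L U e N := by rw [lpow_eq]; exact hf.symm
  have hI : (CycCov.divIdeal D α).ideal ⟨U, hU⟩ = Ideal.span {∏ j, v j ^ α j.1} := by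
    have h1 : (CycCov.divIdeal D α).ideal ⟨U, hU⟩ = ∏ j : Fin r, (D j).ideal ⟨U, hU⟩ ^ α j :=
      map_prod ({ toFun := fun I : X.IdealSheafData => I.ideal ⟨U, hU⟩, map_one' := by show (⊤ : X.IdealSheafData).ideal _ = 1; rw [Scheme.IdealSheafData.ideal_top, Pi.top_apply, Ideal.one_eq_top], map_mul' := fun _ _ => rfl } :
        X.IdealSheafData →* Ideal Γ(X, U)) (fun j => D j ^ α j) _
    rw [h1, ← Finset.prod_filter_mul_prod_filter_not Finset.univ (fun j => x ∈ (D j).support),
      Finset.prod_eq_one (s := Finset.univ.filter fun j => ¬ x ∈ (D j).support)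
        (fun j hj => by rw [hvtop j (Finset.mem_filter.1 hj).2, ← Ideal.one_eq_top, one_pow]), mul_one,
      Finset.prod_subtype (F := fintypeThrough D x) (p := fun j => x ∈ (D j).support) _ (fun j => by simp), ← Ideal.prod_span_singleton]
    refine Finset.prod_congr rfl fun j _ => ?_
    rw [← Ideal.span_singleton_pow]
    exact congrArg (· ^ α j.1) (hvD j)
  have hspan : Ideal.span {f} = Ideal.span {∏ j, v j ^ α j.1} := by
    rw [← hI]
    have hz := hs ⟨U, hU⟩
    rw [hf'] at hz
    refine Ideal.ext fun b => ?_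
    constructor
    · intro hb
      obtain ⟨c, rfl⟩ := Ideal.mem_span_singleton'.1 hb
      refine Ideal.mul_mem_left _ c ?_
      have h1 : f • CycCov.lpow L U e N ∈ (CycCov.divIdeal D α).ideal ⟨U, hU⟩ • (⊤ : Submodule Γ(X, U) _) :=
        hz.le (Submodule.mem_span_singleton_self _)
      obtain ⟨d, hd, hd'⟩ : f • CycCov.lpow L U e N ∈
          Submodule.map (LinearMap.toSpanSingleton Γ(X, U) _ (powSec e N)) ((CycCov.divIdeal D α).ideal ⟨U, hU⟩) := by
        refine Submodule.smul_le.2 (fun a ha m _ => ?_) h1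
        obtain ⟨c, rfl⟩ := hg.2 m
        exact ⟨a * c, Ideal.mul_mem_right _ _ ha, mul_smul a c _⟩
      rw [lpow_eq] at hd'
      exact hg.1 hd' ▸ hd
    · intro hb
      have h1 : b • CycCov.lpow L U e N ∈ Submodule.span Γ(X, U) {f • CycCov.lpow L U e N} :=
        hz.ge (Submodule.smul_mem_smul hb Submodule.mem_top)
      obtain ⟨c, hc⟩ := Submodule.mem_span_singleton.1 h1
      rw [lpow_eq, smul_smul] at hc
      exact Ideal.mem_span_singleton'.2 ⟨c, hg.1 hc⟩
  obtain ⟨u, hu⟩ := Ideal.span_singleton_eq_span_singleton.1 hspan.symm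
  let ρ := constHom f0 U
  haveI : NeZero (N : k) := ⟨hNk⟩
  obtain ⟨ζ, hζ⟩ := HasEnoughRootsOfUnity.exists_primitiveRoot k N
  exact ⟨{ U := U, hU := hU, hxU := hxU, e := e, he := he, f := f, hf := hf', v := v, hv0 := hv0, hrad := hrad,
           hD := hvD, hDtop := hvtop, u := u,
           hfac := by rw [← hu, mul_comm]; ,
           hNu := by rw [← map_natCast ρ]; exact (isUnit_iff_ne_zero.2 hNk).map ρ,
           ζ := ρ ζ, hζ := hζ.map_of_injective ρ.injective }, fun z hz => (hUO hz).1, hcoord⟩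

end Groth.Agent.CycCov28
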