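import Groth.Agent.CycCov28.Smooth
import Groth.Agent.CycCov28.KummerChart
import Groth.Agent.ProjLib.IdealComap

/-!
# The reduced preimages of a normal crossings divisor with smooth branch part
-/

set_option autoImplicit false
set_option linter.style.haveILetI false
set_option linter.unusedSectionVars false
set_option backward.isDefEq.respectTransparency false
set_option backward.isDefEq.respectTransparency.types false
set_option maxHeartbeats 1600000

universe u

open CategoryTheory CategoryTheory.Limits AlgebraicGeometry Opposite TopologicalSpace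
open Groth.Agent.Coherent Groth.Agent.PicLib Groth.Agent.AmpleLib

namespace Groth.Agent.CycCov28

variable {k : Type u} [Field k] {X Y : Scheme.{u}}

/-- A map to affine space that is etale on rings. -/
theorem etale_homOfVector_constHom (f0 : X ⟶ Spec (CommRingCat.of k)) {W : X.Opens} (hW : IsAffineOpen W)
    {σ : Type u} (c : σ → Γ(X, W)) (h : (MvPolynomial.eval₂Hom (constHom f0 W) c).Etale) :
    Etale (AffineSpace.homOfVector (W.ι ≫ f0) fun i => W.topIso.inv (c i)) := by
  haveI : IsAffine W.toScheme := hW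
  let p := W.ι ≫ f0
  let w : σ → Γ(W, ⊤) := fun i => W.topIso.inv (c i)
  suffices Etale (AffineSpace.homOfVector p w ≫ (AffineSpace.isoOfIsAffine σ (Spec (CommRingCat.of k))).hom) from
    (MorphismProperty.cancel_right_of_respectsIso @Etale _ _).1 this
  let eW := W.topIso.commRingCatIsoToRingEquiv
  let ek := (Scheme.ΓSpecIso (CommRingCat.of k)).commRingCatIsoToRingEquiv
  have h2 : (MvPolynomial.eval₂Hom p.appTop.hom w).Etale := by
    have heq : MvPolynomial.eval₂Hom p.appTop.hom w = eW.symm.toRingHom.comp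
        ((MvPolynomial.eval₂Hom (constHom f0 W) c).comp (MvPolynomial.mapEquiv σ ek).toRingHom) := by
      refine MvPolynomial.ringHom_ext (fun r => ?_) fun i => ?_
      · simp only [RingHom.comp_apply, MvPolynomial.eval₂Hom_C, RingEquiv.toRingHom_eq_coe, RingHom.coe_coe,
          MvPolynomial.mapEquiv_apply, MvPolynomial.map_C]
        show p.appTop r = W.topIso.inv ((f0.appLE ⊤ W le_top)
          ((Scheme.ΓSpecIso (CommRingCat.of k)).inv ((Scheme.ΓSpecIso (CommRingCat.of k)).hom r)))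
        rw [Iso.hom_inv_id_apply]
        rw [show p.appTop r = (W.ι.app ⊤) (f0.appTop r) from rfl]
        simp only [Scheme.Hom.appLE, Scheme.Hom.appTop, Scheme.Opens.ι_app, Scheme.Opens.topIso,
          ← CommRingCat.comp_apply, Category.assoc, Functor.mapIso_inv, ← Functor.map_comp]
        rfl
      · simp only [RingHom.comp_apply, MvPolynomial.eval₂Hom_X', RingEquiv.toRingHom_eq_coe, RingHom.coe_coe,
          MvPolynomial.mapEquiv_apply, MvPolynomial.map_X]
        rfl
    rw [heq]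
    exact RingHom.Etale.respectsIso.1 _ eW.symm (RingHom.Etale.respectsIso.2 _ _ h)
  rw [HasRingHomProperty.iff_of_isAffine (P := @Etale), Scheme.Hom.comp_appTop, AffineSpace.isoOfIsAffine_hom_appTop]
  let g := AffineSpace.homOfVector p w
  let T := Spec (CommRingCat.of k)
  have heq : (Scheme.ΓSpecIso (CommRingCat.of (MvPolynomial σ Γ(T, ⊤)))).inv ≫
      ((Scheme.ΓSpecIso _).hom ≫ CommRingCat.ofHom (MvPolynomial.eval₂Hom ((𝔸(σ; T) ↘ T).appTop).hom (AffineSpace.coord T))) ≫
        g.appTop = CommRingCat.ofHom (MvPolynomial.eval₂Hom p.appTop.hom w) := by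
    rw [Category.assoc, Iso.inv_hom_id_assoc]
    ext1
    refine MvPolynomial.ringHom_ext (fun r => ?_) fun i => ?_
    · simp only [CommRingCat.hom_comp, CommRingCat.hom_ofHom, RingHom.comp_apply, MvPolynomial.eval₂Hom_C]
      rw [← CommRingCat.comp_apply, ← Scheme.Hom.comp_appTop, AffineSpace.homOfVector_over]
      exact (MvPolynomial.eval₂Hom_C _ _ r).symm
    · simp only [CommRingCat.hom_comp, CommRingCat.hom_ofHom, RingHom.comp_apply, MvPolynomial.eval₂Hom_X']
      exact (AffineSpace.homOfVector_appTop_coord _ _ _).trans (MvPolynomial.eval₂Hom_X' _ _ i).symm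
  rw [Iso.inv_comp_eq] at heq
  rw [heq, CommRingCat.hom_comp]
  exact RingHom.Etale.respectsIso.2 _
    ((Scheme.ΓSpecIso (CommRingCat.of (MvPolynomial σ Γ(T, ⊤)))).commRingCatIsoToRingEquiv) h2

/-- The radical of the ideal generated by a coordinate. -/
theorem radical_span_coord {B : Type u} [CommRing B] [Algebra k B] {σ : Type u} (c : σ → B) (e : σ)
    (hc : (MvPolynomial.eval₂Hom (algebraMap k B) c).Etale) : (Ideal.span {c e}).radical = Ideal.span {c e} := by
  have h := isRadical_prod_coord (MvPolynomial.eval₂Hom (algebraMap k B) c) hc (fun _ : Unit => e)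
    (fun _ _ _ => rfl)
  rw [Fintype.prod_unique, MvPolynomial.eval₂Hom_X'] at h
  exact h.radical

/-- Etale coordinates upstairs on the part of the model meeting the branch divisor. -/
theorem exists_model_coords {B C : Type u} [CommRing B] [IsDomain B] [Algebra k B] [CommRing C] [Algebra k C]
    [Algebra B C] [IsScalarTower k B C] [Algebra.FinitePresentation k C] (N α a : ℕ) (hN : 0 < N) (hNu : IsUnit (N : B))
    (u : Bˣ) (v : B) (eM : Model N α a u v ≃ₐ[B] C) {σ : Type u} [DecidableEq σ] [Finite σ] (c : σ → B) (e₀ : σ)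
    (hce : c e₀ = v) (hc : (MvPolynomial.eval₂Hom (algebraMap k B) c).Etale) :
    ∃ h z d w : C, h = z + algebraMap B C v * d ∧ IsUnit z ∧ w ^ (N / N.gcd α) = z * algebraMap B C v ∧
      ∀ (Ch : Type u) [CommRing Ch] [Algebra k Ch] [Algebra C Ch] [IsScalarTower k C Ch] [IsLocalization.Away h Ch],
        (MvPolynomial.eval₂Hom (algebraMap k Ch)
          fun i => algebraMap C Ch (if i = e₀ then w else algebraMap B C (c i))).Etale := by
  classical
  haveI hAet : Algebra.Etale B (Mid N α u) := etale_mid N α hN hNu u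
  let cA : σ → Mid N α u := fun i => algebraMap B (Mid N α u) (c i)
  have hcA : letI := (MvPolynomial.aeval cA : MvPolynomial σ k →ₐ[k] Mid N α u).toRingHom.toAlgebra
      Algebra.FormallyEtale (MvPolynomial σ k) (Mid N α u) := by
    letI algPA : Algebra (MvPolynomial σ k) (Mid N α u) :=
      (MvPolynomial.aeval cA : MvPolynomial σ k →ₐ[k] Mid N α u).toRingHom.toAlgebra
    have heq : algebraMap (MvPolynomial σ k) (Mid N α u) =
        (algebraMap B (Mid N α u)).comp (MvPolynomial.eval₂Hom (algebraMap k B) c) := by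
      refine MvPolynomial.ringHom_ext (fun r => ?_) fun i => ?_
      · refine (MvPolynomial.aeval_C cA r).trans ?_
        rw [RingHom.comp_apply, MvPolynomial.eval₂Hom_C, IsScalarTower.algebraMap_apply k B (Mid N α u)]
      · refine (MvPolynomial.aeval_X cA i).trans ?_
        rw [RingHom.comp_apply, MvPolynomial.eval₂Hom_X']
    have h1 : (algebraMap (MvPolynomial σ k) (Mid N α u)).Etale := by
      rw [heq]
      exact RingHom.Etale.stableUnderComposition _ _ hc (RingHom.etale_algebraMap.2 hAet)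
    haveI := RingHom.etale_algebraMap.1 h1
    infer_instance
  obtain ⟨δ, hδ⟩ := KummerChart.exists_dual_derivation cA hcA e₀
  let r : Mid N α u := AdjoinRoot.root _
  have hδv : δ (algebraMap B (Mid N α u) v) = 1 := by
    have := hδ e₀
    rwa [if_pos rfl, show cA e₀ = algebraMap B (Mid N α u) v from congrArg (algebraMap B (Mid N α u)) hce] at this
  let sM : Mid N α u := r ^ a * algebraMap B (Mid N α u) v
  let eC := eM.restrictScalars k
  let ι : Mid N α u →+* C :=
    eC.toRingEquiv.toRingHom.comp (AdjoinRoot.of (Polynomial.X ^ (N / N.gcd α) - Polynomial.C sM))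
  have hιB : ∀ b : B, ι (algebraMap B (Mid N α u) b) = algebraMap B C b := fun b => eM.commutes b
  refine ⟨ι (δ sM), ι (r ^ a), ι (δ (r ^ a)), eC (AdjoinRoot.root _), ?_, ((isUnit_root N α hN u).pow a).map ι, ?_, ?_⟩
  · rw [← hιB, ← map_mul, ← map_add]
    refine congrArg ι ?_
    rw [Derivation.leibniz, hδv, smul_eq_mul, smul_eq_mul, mul_one]
  · have h1 := AdjoinRoot.eval₂_root (Polynomial.X ^ (N / N.gcd α) - Polynomial.C sM)
    rw [Polynomial.eval₂_sub, Polynomial.eval₂_X_pow, Polynomial.eval₂_C, sub_eq_zero] at h1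
    rw [← map_pow, ← hιB, ← map_mul]
    exact congrArg eC h1
  · intro Ch _ _ _ _ _
    haveI : IsLocalization.Away (eC (AdjoinRoot.of _ (δ sM))) Ch :=
      inferInstanceAs (IsLocalization.Away (ι (δ sM)) Ch)
    have hfe := KummerChart.formallyEtale_root cA hcA e₀ δ hδ (N / N.gcd α) sM eC Ch
    let cW : σ → Ch := fun i =>
      algebraMap C Ch (if i = e₀ then eC (AdjoinRoot.root _) else algebraMap B C (c i))
    have hcW : cW = fun i => algebraMap C Ch
        (if i = e₀ then eC (AdjoinRoot.root _) else eC (AdjoinRoot.of _ (cA i))) := funext fun i => by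
      simp only [cW]
      rw [← hιB]
      rfl
    show (MvPolynomial.eval₂Hom (algebraMap k Ch) cW).Etale
    rw [hcW]
    letI algPW : Algebra (MvPolynomial σ k) Ch := (MvPolynomial.aeval fun i => algebraMap C Ch
        (if i = e₀ then eC (AdjoinRoot.root _) else eC (AdjoinRoot.of _ (cA i))) : MvPolynomial σ k →ₐ[k] Ch).toRingHom.toAlgebra
    haveI : Algebra.FormallyEtale (MvPolynomial σ k) Ch := hfe
    haveI : IsScalarTower k (MvPolynomial σ k) Ch :=
      IsScalarTower.of_algebraMap_eq fun r => (MvPolynomial.aeval_C _ r).symm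
    haveI : Algebra.FinitePresentation k Ch := Algebra.FinitePresentation.of_isLocalizationAway (ι (δ sM))
    haveI : Algebra.FinitePresentation (MvPolynomial σ k) Ch :=
      Algebra.FinitePresentation.of_restrict_scalars_finitePresentation k _ _
    exact RingHom.etale_algebraMap.2 (⟨inferInstance, inferInstance⟩ : Algebra.Etale (MvPolynomial σ k) Ch)

variable (f0 : X ⟶ Spec (CommRingCat.of k)) [Smooth f0] [IsIntegral X]
variable {r : ℕ} {D : Fin r → X.IdealSheafData} {α : Fin r → ℕ}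
variable {L : X.Modules} {N : ℕ} {s : Coh.structureModule X ⟶ CohB1.tensorPow L N} {π : Y ⟶ X}

include f0 in
theorem exists_chart_upstairs [IsAffineHom π] (hL : PicF.IsInvertible L) (hN : 0 < N) (hNk : (N : k) ≠ 0)
    (R : CycCov.Root L N s π) (hR : CycCov.IsCover R) {x : X} (Λ : LocalData D α s x)
    (hone : ∀ j j' : LogNCD.Through D x, 0 < α j.1 → 0 < α j'.1 → j = j')
    {n : ℕ} (c : ULift.{u} (Fin n) → Γ(X, Λ.U)) (e : LogNCD.Through D x → ULift.{u} (Fin n)) (he : Function.Injective e)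
    (het : (MvPolynomial.eval₂Hom (constHom f0 Λ.U) c).Etale) (hce : ∀ j, c (e j) = Λ.v j) (y : Y) (hy : π y = x) :
    ∃ (W : Y.Opens) (hW : IsAffineOpen W), y ∈ W ∧ W ≤ π ⁻¹ᵁ Λ.U ∧ ∃ c' : ULift.{u} (Fin n) → Γ(Y, W),
      (MvPolynomial.eval₂Hom (constHom (π ≫ f0) W) c').Etale ∧
      (∀ j : LogNCD.Through D x, ((D j.1).comap π).radical.ideal ⟨W, hW⟩ = Ideal.span {c' (e j)}) := by
  classical
  haveI : IsFinite π := hR.1
  haveI : Nonempty Λ.U := ⟨⟨x, Λ.hxU⟩⟩
  have hU₀ : IsAffineOpen (π ⁻¹ᵁ Λ.U) := Λ.hU.preimage π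
  have hyU : y ∈ π ⁻¹ᵁ Λ.U := by
    show π y ∈ Λ.U
    rw [hy]; exact Λ.hxU
  letI algB : Algebra k Γ(X, Λ.U) := (constHom f0 Λ.U).toAlgebra
  letI := (π.app Λ.U).hom.toAlgebra
  letI algC : Algebra k Γ(Y, π ⁻¹ᵁ Λ.U) := ((π.app Λ.U).hom.comp (constHom f0 Λ.U)).toAlgebra
  haveI : IsScalarTower k Γ(X, Λ.U) Γ(Y, π ⁻¹ᵁ Λ.U) := IsScalarTower.of_algebraMap_eq fun _ => rfl
  have hk : constHom (π ≫ f0) (π ⁻¹ᵁ Λ.U) = algebraMap k Γ(Y, π ⁻¹ᵁ Λ.U) := by
    rw [constHom_comp f0 le_rfl, ← Scheme.Hom.app_eq_appLE]; rfl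
  have hDj : ∀ j : LogNCD.Through D x, (D j.1).ideal ⟨Λ.U, Λ.hU⟩ = Ideal.span {c (e j)} := fun j =>
    (Λ.hD j).trans (by rw [hce])
  obtain ⟨S, w, hw⟩ := exists_basis_local f0 hL hN R hR Λ
  by_cases hpos : ∃ j₀ : LogNCD.Through D x, 0 < α j₀.1
  swap
  · -- the cover is etale
    have h0 : ∀ j : LogNCD.Through D x, α j.1 = 0 := fun j => by
      by_contra h
      exact hpos ⟨j, Nat.pos_of_ne_zero h⟩
    haveI hetale : Algebra.Etale Γ(X, Λ.U) Γ(Y, π ⁻¹ᵁ Λ.U) := etale_of_basis N hN Λ.hNu Λ.u (Λ.t R)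
      (by rw [S.ht, Λ.hfac]; simp [h0]) w (fun i => by simpa [h0] using hw i)
    have hc' : (MvPolynomial.eval₂Hom (algebraMap k Γ(Y, π ⁻¹ᵁ Λ.U)) fun i => algebraMap _ _ (c i)).Etale := by
      have heq : MvPolynomial.eval₂Hom (algebraMap k Γ(Y, π ⁻¹ᵁ Λ.U)) (fun i => algebraMap _ _ (c i)) =
          (algebraMap Γ(X, Λ.U) Γ(Y, π ⁻¹ᵁ Λ.U)).comp (MvPolynomial.eval₂Hom (constHom f0 Λ.U) c) := by
        refine MvPolynomial.ringHom_ext (fun r => ?_) fun i => ?_
        · simp only [RingHom.comp_apply, MvPolynomial.eval₂Hom_C]; rfl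
        · simp
      rw [heq]
      exact RingHom.Etale.stableUnderComposition _ _ het (RingHom.etale_algebraMap.2 hetale)
    refine ⟨π ⁻¹ᵁ Λ.U, hU₀, hyU, le_rfl, fun i => algebraMap _ _ (c i), hk ▸ hc', fun j => ?_⟩
    rw [Scheme.IdealSheafData.radical_ideal, ProjLib.comap_ideal_eq (D j.1) π ⟨Λ.U, Λ.hU⟩ ⟨π ⁻¹ᵁ Λ.U, hU₀⟩ le_rfl,
      hDj, Ideal.map_span, Set.image_singleton, ← Scheme.Hom.app_eq_appLE]
    exact radical_span_coord (fun i => algebraMap Γ(X, Λ.U) Γ(Y, π ⁻¹ᵁ Λ.U) (c i)) (e j) hc'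
  · obtain ⟨j₀, hj₀⟩ := hpos
    have h0 : ∀ j, j ≠ j₀ → α j.1 = 0 := fun j hj => by
      by_contra h
      exact hj (hone j j₀ (Nat.pos_of_ne_zero h) hj₀)
    have hf := Λ.hfac
    rw [Fintype.prod_eq_single j₀ fun j hj => by rw [h0 j hj, pow_zero]] at hf
    have hw' : ∀ i : Fin N, algebraMap _ _ (Λ.v j₀ ^ ((i : ℕ) * α j₀.1 / N)) * w i = Λ.t R ^ (i : ℕ) := fun i => by
      have := hw i
      rwa [Fintype.prod_eq_single j₀ fun j hj => by rw [h0 j hj, mul_zero, Nat.zero_div, pow_zero]] at this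
    obtain ⟨a, ⟨eM⟩⟩ := exists_equiv S Λ.u (Λ.v j₀) (Λ.hv0 j₀) (α j₀.1) hj₀ hf w hw'
    haveI hBs : Algebra.Smooth k Γ(X, Λ.U) := RingHom.smooth_algebraMap.1 (smooth_constHom f0 Λ.hU)
    haveI : Module.Finite Γ(X, Λ.U) Γ(Y, π ⁻¹ᵁ Λ.U) := IsFinite.finite_app π Λ.U Λ.hU
    haveI : Algebra.FiniteType k Γ(Y, π ⁻¹ᵁ Λ.U) :=
      Algebra.FiniteType.trans (S := Γ(X, Λ.U)) inferInstance inferInstance
    haveI : Algebra.FinitePresentation k Γ(Y, π ⁻¹ᵁ Λ.U) := Algebra.FinitePresentation.of_finiteType.1 inferInstance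
    obtain ⟨h, z, d, wr, hh, hz, hwr, hcoords⟩ := exists_model_coords (k := k) N (α j₀.1) a hN Λ.hNu Λ.u (Λ.v j₀) eM c (e j₀)
      (hce j₀) het
    let W := Y.basicOpen h
    have hWU : W ≤ π ⁻¹ᵁ Λ.U := Y.basicOpen_le h
    have hW : IsAffineOpen W := hU₀.basicOpen h
    have hyW : y ∈ W := by
      have hsupp : x ∈ X.zeroLocus (U := Λ.U) ((D j₀.1).ideal ⟨Λ.U, Λ.hU⟩ : Set Γ(X, Λ.U)) :=
        ((Scheme.IdealSheafData.coe_support_inter _ ⟨Λ.U, Λ.hU⟩).le ⟨j₀.2, Λ.hxU⟩).1
      have hvx : x ∉ X.basicOpen (Λ.v j₀) := (Scheme.mem_zeroLocus_iff _ _ _).1 hsupp _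
        (by rw [SetLike.mem_coe, Λ.hD j₀]; exact Ideal.mem_span_singleton_self _)
      have hvy : y ∉ Y.basicOpen ((π.app Λ.U).hom (Λ.v j₀)) := fun h' => by
        rw [← Scheme.preimage_basicOpen] at h'
        have : π y ∈ X.basicOpen (Λ.v j₀) := h'
        rw [hy] at this
        exact hvx this
      rw [Scheme.mem_basicOpen _ _ _ hyU] at hvy ⊢
      let γ := (Y.presheaf.germ (π ⁻¹ᵁ Λ.U) y hyU).hom
      change ¬ IsUnit (γ ((π.app Λ.U).hom (Λ.v j₀))) at hvy
      show IsUnit (γ h)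
      by_contra hh'
      rw [← mem_nonunits_iff, ← IsLocalRing.mem_maximalIdeal, hh, map_add, map_mul] at hh'
      rw [← mem_nonunits_iff, ← IsLocalRing.mem_maximalIdeal] at hvy
      have h3 := (Ideal.add_mem_iff_left _ (Ideal.mul_mem_right _ _ hvy)).1 hh'
      rw [IsLocalRing.mem_maximalIdeal, mem_nonunits_iff] at h3
      exact h3 (hz.map γ)
    let res₀ := (Y.presheaf.map (homOfLE hWU).op).hom
    letI algCh : Algebra Γ(Y, π ⁻¹ᵁ Λ.U) Γ(Y, W) := res₀.toAlgebra
    haveI hloc : IsLocalization.Away h Γ(Y, W) := hU₀.isLocalization_of_eq_basicOpen h (homOfLE hWU) rfl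
    letI algkW : Algebra k Γ(Y, W) := (constHom (π ≫ f0) W).toAlgebra
    haveI : IsScalarTower k Γ(Y, π ⁻¹ᵁ Λ.U) Γ(Y, W) := IsScalarTower.of_algebraMap_eq fun r => by
      show constHom (π ≫ f0) W r = res₀ (algebraMap k Γ(Y, π ⁻¹ᵁ Λ.U) r)
      rw [← hk, constHom, constHom, ← RingHom.comp_apply res₀, ← CommRingCat.hom_comp, Category.assoc,
        Scheme.Hom.appLE_map]
    let cW : ULift.{u} (Fin n) → Γ(Y, W) := fun i => res₀ (if i = e j₀ then wr else algebraMap _ _ (c i))
    have hcW : (MvPolynomial.eval₂Hom (algebraMap k Γ(Y, W)) cW).Etale := hcoords Γ(Y, W)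
    refine ⟨W, hW, hyW, hWU, cW, hcW, fun j => ?_⟩
    rw [Scheme.IdealSheafData.radical_ideal, ProjLib.comap_ideal_eq (D j.1) π ⟨Λ.U, Λ.hU⟩ ⟨W, hW⟩ hWU,
      Λ.hD j, Ideal.map_span, Set.image_singleton]
    rw [show (π.appLE Λ.U W hWU).hom (Λ.v j) = res₀ ((π.app Λ.U).hom (Λ.v j)) from rfl]
    by_cases hj : j = j₀
    · subst hj
      have hu : IsUnit (res₀ z) := hz.map res₀
      have hcj : cW (e j) = res₀ wr := congrArg res₀ (if_pos rfl)
      have hN' : 0 < N / N.gcd (α j.1) :=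
        Nat.div_pos (Nat.le_of_dvd hN (Nat.gcd_dvd_left _ _)) (Nat.gcd_pos_of_pos_left _ hN)
      have heq : res₀ z * res₀ ((π.app Λ.U).hom (Λ.v j)) = cW (e j) ^ (N / N.gcd (α j.1)) := by
        rw [hcj, ← map_pow, hwr, map_mul]; rfl
      rw [← Ideal.span_singleton_mul_left_unit hu (res₀ ((π.app Λ.U).hom (Λ.v j))), heq,
        ← Ideal.span_singleton_pow, Ideal.radical_pow _ hN'.ne']
      exact radical_span_coord cW (e j) hcW
    · have hcj : cW (e j) = res₀ ((π.app Λ.U).hom (Λ.v j)) := by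
        refine congrArg res₀ ((if_neg fun h' => hj (he h')).trans ?_)
        rw [← hce j]
        rfl
      rw [← hcj]
      exact radical_span_coord cW (e j) hcW

include f0 in
/-- Reduced preimages of the components form a normal crossings divisor. -/
theorem isNCD_radical_comap [IsAlgClosed k] (hL : PicF.IsInvertible L) (hN : 0 < N) (hNk : (N : k) ≠ 0)
    (hD : LogNCD.IsNCD D f0) (hs : CycCov.IsZeroDiv (CohB1.tensorPow L N) s (CycCov.divIdeal D α))
    (R : CycCov.Root L N s π) (hR : CycCov.IsCover R)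
    (hdisj : ∀ (x : X) (j j' : Fin r), 0 < α j → 0 < α j' → x ∈ (D j).support → x ∈ (D j').support → j = j') :
    LogNCD.IsNCD (fun j : Fin r => ((D j).comap π).radical) (π ≫ f0) := by
  haveI : IsFinite π := hR.1
  intro y hy
  have hmem : ∀ j, y ∈ ((D j).comap π).radical.support ↔ π y ∈ (D j).support := fun j => by
    rw [Scheme.IdealSheafData.support_radical, Scheme.IdealSheafData.support_comap]; rfl
  let toX : LogNCD.Through (fun j : Fin r => ((D j).comap π).radical) y → LogNCD.Through D (π y) :=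
    fun j => ⟨j.1, (hmem j.1).1 j.2⟩
  obtain ⟨Λ, -, hcoord⟩ := exists_localData f0 hL hNk hD hs (π y) ⊤ trivial
  obtain ⟨j₁⟩ := hy
  obtain ⟨n, c, e, he, het, hce⟩ := hcoord ⟨toX j₁⟩
  obtain ⟨W, hW, hyW, hWU, c', hc', hid⟩ := exists_chart_upstairs f0 hL hN hNk R hR Λ
    (fun j j' h h' => Subtype.ext (hdisj (π y) j.1 j'.1 h h' j.2 j'.2)) c e he het hce y rfl
  refine ⟨W, hyW, n, fun i => W.topIso.inv (c' i), fun j => (e (toX j)).down, fun i j hij => ?_,
    etale_homOfVector_constHom (π ≫ f0) hW c' hc', fun j U hUW => ?_, fun j hj U hUW => ?_⟩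
  · exact Subtype.ext ((congrArg Subtype.val (he (ULift.down_injective hij)) : (toX i).1 = (toX j).1))
  · rw [← Scheme.IdealSheafData.map_ideal _ (U := U) (V := ⟨W, hW⟩) hUW, hid (toX j), Ideal.map_span, Set.image_singleton]
    congr 2
    exact congrArg _ (Iso.inv_hom_id_apply W.topIso _).symm
  · have hx : π y ∉ (D j).support := fun h => hj ((hmem j).2 h)
    rw [Scheme.IdealSheafData.radical_ideal,
      ProjLib.comap_ideal_eq (D j) π ⟨Λ.U, Λ.hU⟩ U (hUW.trans hWU), Λ.hDtop j hx, Ideal.map_top, Ideal.radical_top]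

end Groth.Agent.CycCov28
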