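import Groth.Agent.CycCov28.Algebra
import Groth.Agent.SmoothLib.Monogenic
import Groth.Agent.HenselLib.EtaleReduced
import Mathlib.RingTheory.TensorProduct.Quotient
import Mathlib.RingTheory.OrzechProperty
import Mathlib.RingTheory.FiniteType
import Mathlib.Data.ZMod.Units

/-!
# The cover near a smooth point of the branch divisor

If `f = u v ^ α` then the normalised algebra is `B[z,w]/(z ^ d - u, w ^ N' - z ^ a v)` with `d = gcd (N, α)`.
-/

set_option autoImplicit false
set_option linter.style.haveILetI false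
set_option maxHeartbeats 800000

universe u

open Polynomial
open scoped TensorProduct

namespace Groth.Agent.CycCov28

/-- Exponents: `a α' = b N' + 1`. -/
theorem exists_exponents (N α : ℕ) (hN : 0 < N) (hα : 0 < α) : ∃ a b : ℕ,
    a * (α / N.gcd α) = b * (N / N.gcd α) + 1 := by
  let d := N.gcd α
  have hd : 0 < d := Nat.gcd_pos_of_pos_left _ hN
  have hco : Nat.Coprime (α / d) (N / d) := (Nat.coprime_div_gcd_div_gcd hd).symm
  have hα' : 0 < α / d := Nat.div_pos (Nat.le_of_dvd hα (Nat.gcd_dvd_right _ _)) hd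
  have hN' : 0 < N / d := Nat.div_pos (Nat.le_of_dvd hN (Nat.gcd_dvd_left _ _)) hd
  haveI : NeZero (N / d) := ⟨hN'.ne'⟩
  let a₀ := ((ZMod.unitOfCoprime (α / d) hco)⁻¹ : (ZMod (N / d))ˣ)
  let a := (a₀ : ZMod (N / d)).val + N / d
  have h1 : ((a * (α / d) : ℕ) : ZMod (N / d)) = ((1 : ℕ) : ZMod (N / d)) := by
    simp only [a, Nat.cast_mul, Nat.cast_add, ZMod.natCast_zmod_val, ZMod.natCast_self, add_zero, Nat.cast_one, a₀]
    rw [← ZMod.coe_unitOfCoprime (α / d) hco]
    exact Units.inv_mul _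
  have h2 : 1 ≤ a * (α / d) := Nat.mul_pos (by omega) hα'
  obtain ⟨b, hb⟩ := (Nat.modEq_iff_dvd' h2).1 ((ZMod.natCast_eq_natCast_iff _ _ _).1 h1).symm
  exact ⟨a, b, by show a * (α / d) = b * (N / d) + 1; rw [mul_comm b, ← hb]; omega⟩

variable {B : Type u} [CommRing B] [IsDomain B]

/-- The intermediate etale algebra `B[z]/(z ^ d - u)`. -/
abbrev Mid (N α : ℕ) (u : Bˣ) : Type u := AdjoinRoot (X ^ N.gcd α - C (u : B))

/-- `B[z,w]/(z ^ d - u, w ^ N' - z ^ a v)`. -/
abbrev Model (N α a : ℕ) (u : Bˣ) (v : B) : Type u :=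
  AdjoinRoot (X ^ (N / N.gcd α) - C (AdjoinRoot.root (X ^ N.gcd α - C (u : B)) ^ a * algebraMap B (Mid N α u) v))

theorem isUnit_root (N α : ℕ) (hN : 0 < N) (u : Bˣ) :
    IsUnit (AdjoinRoot.root (X ^ N.gcd α - C (u : B))) := by
  have h := AdjoinRoot.eval₂_root (X ^ N.gcd α - C (u : B))
  rw [eval₂_sub, eval₂_X_pow, eval₂_C, sub_eq_zero] at h
  exact (isUnit_pow_iff (Nat.gcd_pos_of_pos_left _ hN).ne').1 (h ▸ u.isUnit.map _)

theorem etale_mid (N α : ℕ) (hN : 0 < N) (hNu : IsUnit (N : B)) (u : Bˣ) : Algebra.Etale B (Mid N α u) := by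
  refine SmoothLib.etale_adjoinRoot_of_separable _ (monic_X_pow_sub_C _ (Nat.gcd_pos_of_pos_left _ hN).ne')
    (separable_X_pow_sub_C_unit u ?_)
  obtain ⟨c, hc⟩ := Nat.gcd_dvd_left N α
  have : IsUnit ((N.gcd α : B) * (c : B)) := by rw [← Nat.cast_mul, ← hc]; exact hNu
  exact isUnit_of_mul_isUnit_left this

/-- The model is the cover. -/
theorem exists_equiv {C : Type u} [CommRing C] [Algebra B C] {N : ℕ} {f : B} {t : C} (S : CovData N f t)
    (u : Bˣ) (v : B) (hv : v ≠ 0) (α : ℕ) (hα : 0 < α) (hf : f = u * v ^ α)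
    (w : Module.Basis (Fin N) B C) (hw : ∀ i : Fin N, algebraMap B C (v ^ ((i : ℕ) * α / N)) * w i = t ^ (i : ℕ)) :
    ∃ a : ℕ, Nonempty (Model N α a u v ≃ₐ[B] C) := by
  classical
  obtain ⟨a, b, hab⟩ := exists_exponents N α S.hN hα
  refine ⟨a, ?_⟩
  set d := N.gcd α with hd_def
  have hd : 0 < d := Nat.gcd_pos_of_pos_left _ S.hN
  set N' := N / d with hN'_def
  set α' := α / d with hα'_def
  have hNd : N' * d = N := Nat.div_mul_cancel (Nat.gcd_dvd_left _ _)
  have hαd : α' * d = α := Nat.div_mul_cancel (Nat.gcd_dvd_right _ _)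
  have hN' : 0 < N' := Nat.div_pos (Nat.le_of_dvd S.hN (Nat.gcd_dvd_left _ _)) hd
  have hvC : ∀ n : ℕ, algebraMap B C v ^ n ∈ nonZeroDivisors C := fun n => by
    rw [← map_pow]; exact S.algebraMap_mem (pow_ne_zero _ hv)
  have htN : t ^ N = algebraMap B C u * algebraMap B C v ^ α := by rw [S.ht, hf, map_mul, map_pow]
  obtain ⟨z, hz⟩ : algebraMap B C v ^ α' ∣ t ^ N' := by
    refine S.hclosed _ _ d hd (hvC _) ⟨algebraMap B C u, ?_⟩
    rw [← pow_mul, ← pow_mul, hNd, hαd, htN, mul_comm]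
  have hzd : z ^ d = algebraMap B C u := by
    refine (mul_cancel_left_mem_nonZeroDivisors (hvC α)).1 ?_
    rw [mul_comm _ (algebraMap B C u), ← htN, ← hNd, pow_mul t, hz, mul_pow, ← pow_mul, hαd]
  have hzu : IsUnit z := (isUnit_pow_iff hd.ne').1 (hzd ▸ u.isUnit.map _)
  obtain ⟨x, hx⟩ : algebraMap B C v ^ b ∣ t ^ a := by
    refine S.hclosed _ _ N' hN' (hvC _) ⟨z ^ a * algebraMap B C v, ?_⟩
    rw [← pow_mul, mul_comm a, pow_mul, hz, mul_pow, ← pow_mul, mul_comm α', hab, pow_succ]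
    ring
  have hxN : x ^ N' = z ^ a * algebraMap B C v := by
    refine (mul_cancel_left_mem_nonZeroDivisors (hvC (b * N'))).1 ?_
    rw [show algebraMap B C v ^ (b * N') * x ^ N' = (t ^ a) ^ N' by rw [hx, mul_pow, ← pow_mul],
      ← pow_mul, mul_comm a, pow_mul, hz, mul_pow, ← pow_mul, mul_comm α', hab, pow_succ]
    ring
  let ψ₀ : Mid N α u →ₐ[B] C := AdjoinRoot.liftAlgHom _ (Algebra.ofId B C) z (by
    show eval₂ (algebraMap B C) z (X ^ N.gcd α - Polynomial.C (u : B)) = 0
    rw [eval₂_sub, eval₂_X_pow, eval₂_C]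
    exact sub_eq_zero.2 hzd)
  letI : Algebra (Mid N α u) C := ψ₀.toRingHom.toAlgebra
  haveI : IsScalarTower B (Mid N α u) C := IsScalarTower.of_algebraMap_eq fun r => (ψ₀.commutes r).symm
  have hψz : ψ₀ (AdjoinRoot.root _) = z := AdjoinRoot.liftAlgHom_root _ _ _ _
  let φ' : Model N α a u v →ₐ[Mid N α u] C := AdjoinRoot.liftAlgHom _ (Algebra.ofId (Mid N α u) C) x (by
    show eval₂ (algebraMap (Mid N α u) C) x _ = 0
    rw [eval₂_sub, eval₂_X_pow, eval₂_C, map_mul, map_pow,
      show algebraMap (Mid N α u) C (AdjoinRoot.root _) = z from hψz, ← IsScalarTower.algebraMap_apply]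
    exact sub_eq_zero.2 hxN)
  let φ := φ'.restrictScalars B
  have hφx : φ (AdjoinRoot.root _) = x := by
    simp only [φ, φ', AlgHom.restrictScalars_apply, AdjoinRoot.liftAlgHom_root]
  have hz_mem : z ∈ φ.range := ⟨algebraMap (Mid N α u) (Model N α a u v) (AdjoinRoot.root _), (φ'.commutes _).trans hψz⟩
  have hzi_mem : ((hzu.unit⁻¹ : Cˣ) : C) ∈ φ.range := by
    have h1 : ((hzu.unit⁻¹ : Cˣ) : C) = z ^ (d - 1) * algebraMap B C ((u⁻¹ : Bˣ) : B) := by
      refine Units.inv_eq_of_mul_eq_one_right ?_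
      rw [IsUnit.unit_spec, ← mul_assoc, ← pow_succ', Nat.sub_add_cancel hd, hzd, ← map_mul, Units.mul_inv, map_one]
    rw [h1]
    exact mul_mem (pow_mem hz_mem _) (Subalgebra.algebraMap_mem _ _)
  have hsurj : Function.Surjective φ := fun c => by
    suffices h : c ∈ φ.range from h
    rw [← w.sum_repr c]
    refine Subalgebra.sum_mem _ fun n _ => Subalgebra.smul_mem _ ?_ _
    -- `w n` is `x ^ i` times a power of `z`
    let i := (n : ℕ) * α' % N'
    have hq : (n : ℕ) * α / N = (n : ℕ) * α' / N' := by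
      rw [← hαd, ← mul_assoc]
      exact (congrArg (_ / ·) hNd.symm).trans (Nat.mul_div_mul_right _ _ hd)
    obtain ⟨m2, hm2⟩ : N' ∣ (n : ℕ) + (N' - 1) * (a * i) := by
      rw [← ZMod.natCast_eq_zero_iff]
      have e : ((a * α' : ℕ) : ZMod N') = 1 := by rw [hab]; simp
      have ei : (i : ZMod N') = (n : ℕ) * (α' : ZMod N') := by rw [ZMod.natCast_mod]; push_cast; rfl
      push_cast [Nat.cast_sub hN']
      rw [ZMod.natCast_self, ei]
      push_cast at e
      linear_combination -((n : ℕ) : ZMod N') * e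
    have hkey : (n : ℕ) + N' * (a * i) = a * i + N' * m2 := by
      rw [← hm2, Nat.sub_one_mul]
      have : a * i ≤ N' * (a * i) := Nat.le_mul_of_pos_left _ hN'
      omega
    let q := (n : ℕ) * α' / N'
    have hqi : N' * q + i = (n : ℕ) * α' := Nat.div_add_mod _ _
    have hexp : q + α' * (a * i) = b * i + α' * m2 := by
      refine Nat.eq_of_mul_eq_mul_left hN' ?_
      have := congrArg (· * α') hkey
      simp only [add_mul] at this
      linear_combination this + hqi + (congrArg (· * i) hab)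
    have hwn : w n * z ^ (a * i) = x ^ i * z ^ m2 := by
      refine (mul_cancel_left_mem_nonZeroDivisors (hvC (q + α' * (a * i)))).1 ?_
      calc algebraMap B C v ^ (q + α' * (a * i)) * (w n * z ^ (a * i))
          = (algebraMap B C v ^ q * w n) * (algebraMap B C v ^ α' * z) ^ (a * i) := by ring
        _ = t ^ (n : ℕ) * (t ^ N') ^ (a * i) := by rw [← map_pow, ← hz, ← hw n, hq]
        _ = t ^ (a * i + N' * m2) := by rw [← pow_mul, ← pow_add, hkey]
        _ = (t ^ a) ^ i * (t ^ N') ^ m2 := by ring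
        _ = (algebraMap B C v ^ b * x) ^ i * (algebraMap B C v ^ α' * z) ^ m2 := by rw [← hx, ← hz]
        _ = algebraMap B C v ^ (b * i + α' * m2) * (x ^ i * z ^ m2) := by ring
        _ = algebraMap B C v ^ (q + α' * (a * i)) * (x ^ i * z ^ m2) := by rw [hexp]
    have : w n = x ^ i * z ^ m2 * (((hzu.unit⁻¹ : Cˣ) : C)) ^ (a * i) := by
      rw [← hwn, mul_assoc, ← mul_pow, IsUnit.mul_val_inv, one_pow, mul_one]
    rw [this]
    exact mul_mem (mul_mem (pow_mem (φ.mem_range_self _ |> (hφx ▸ ·)) _) (pow_mem hz_mem _)) (pow_mem hzi_mem _)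
  refine ⟨AlgEquiv.ofBijective φ ⟨?_, hsurj⟩⟩
  haveI : Nontrivial C := ⟨⟨w ⟨0, S.hN⟩, 0, w.ne_zero _⟩⟩
  haveI : Nontrivial (Mid N α u) := ψ₀.toRingHom.domain_nontrivial
  let bM := (AdjoinRoot.powerBasis' (monic_X_pow_sub_C (u : B) hd.ne')).basis.smulTower
    (AdjoinRoot.powerBasis' (monic_X_pow_sub_C (AdjoinRoot.root (X ^ N.gcd α - Polynomial.C (u : B)) ^ a * algebraMap B (Mid N α u) v) hN'.ne')).basis
  have hcard : Fintype.card (Fin (AdjoinRoot.powerBasis' (monic_X_pow_sub_C (u : B) hd.ne')).dim ×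
      Fin (AdjoinRoot.powerBasis' (monic_X_pow_sub_C (AdjoinRoot.root (X ^ N.gcd α - Polynomial.C (u : B)) ^ a * algebraMap B (Mid N α u) v) hN'.ne')).dim) =
      Fintype.card (Fin N) := by
    simp only [Fintype.card_prod, Fintype.card_fin, AdjoinRoot.powerBasis'_dim, natDegree_X_pow_sub_C]
    rw [mul_comm]; exact hNd
  let e : Model N α a u v ≃ₗ[B] C := bM.equiv w (Fintype.equivOfCardEq hcard)
  haveI : Module.Finite B C := Module.Finite.of_basis w
  have h1 : Function.Injective (φ.toLinearMap ∘ₗ e.symm.toLinearMap) :=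
    OrzechProperty.injective_of_surjective_endomorphism _ (hsurj.comp e.symm.surjective)
  intro p q hpq
  exact e.injective (h1 (by simpa using hpq))

omit [IsDomain B] in
theorem isRadical_map_of_etale' {A : Type u} [CommRing A] [Algebra B A] [Algebra.Etale B A]
    (J : Ideal B) (hJ : J.IsRadical) : (J.map (algebraMap B A)).IsRadical := by
  haveI : IsReduced (B ⧸ J) := (Ideal.isRadical_iff_quotient_reduced J).1 hJ
  haveI : IsReduced ((B ⧸ J) ⊗[B] A) := HenselLib.isReduced_of_etale (B ⧸ J) _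
  rw [Ideal.isRadical_iff_quotient_reduced]
  let ε₁ := (Algebra.TensorProduct.quotIdealMapEquivTensorQuot A J).toRingEquiv
  let ε₂ := (Algebra.TensorProduct.comm B A (B ⧸ J)).toRingEquiv
  exact isReduced_of_injective (ε₁.trans ε₂) (RingEquiv.injective _)

/-- In the model the branch divisor is `N'` times a radical one. -/
theorem model_ideals (N α a : ℕ) (hN : 0 < N) (hNu : IsUnit (N : B)) (u : Bˣ) (v : B)
    (hv : (Ideal.span {v}).IsRadical) :
    ((Ideal.span {v}).map (algebraMap B (Model N α a u v))).radical ^ (N / N.gcd α) =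
      (Ideal.span {v}).map (algebraMap B (Model N α a u v)) := by
  haveI := etale_mid N α hN hNu u
  have hN' : 0 < N / N.gcd α := Nat.div_pos (Nat.le_of_dvd hN (Nat.gcd_dvd_left _ _)) (Nat.gcd_pos_of_pos_left _ hN)
  let M := Mid N α u
  let c : M := AdjoinRoot.root _ ^ a * algebraMap B M v
  let W : Model N α a u v := AdjoinRoot.root _
  have hc : (Ideal.span {v}).map (algebraMap B M) = Ideal.span {c} := by
    rw [Ideal.map_span, Set.image_singleton, Ideal.span_singleton_mul_left_unit ((isUnit_root N α hN u).pow a)]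
  have hW : W ^ (N / N.gcd α) = algebraMap M (Model N α a u v) c := by
    have h := AdjoinRoot.eval₂_root (X ^ (N / N.gcd α) - C c)
    rw [eval₂_sub, eval₂_X_pow, eval₂_C, sub_eq_zero] at h
    exact h
  have hmap : (Ideal.span {v}).map (algebraMap B (Model N α a u v)) = Ideal.span {W} ^ (N / N.gcd α) := by
    have h0 : (Ideal.span {v}).map (algebraMap B (Model N α a u v)) =
        ((Ideal.span {v}).map (algebraMap B M)).map (algebraMap M (Model N α a u v)) := by
      rw [Ideal.map_map]; rfl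
    rw [h0, hc, Ideal.map_span, Set.image_singleton, ← hW, Ideal.span_singleton_pow]
  haveI : IsReduced (M ⧸ Ideal.span {c}) :=
    (Ideal.isRadical_iff_quotient_reduced _).1 (hc ▸ isRadical_map_of_etale' _ hv)
  let χ : Model N α a u v →+* M ⧸ Ideal.span {c} := AdjoinRoot.lift (Ideal.Quotient.mk _) 0 (by
    rw [eval₂_sub, eval₂_X_pow, eval₂_C, zero_pow hN'.ne', zero_sub, neg_eq_zero]
    exact Ideal.Quotient.eq_zero_iff_mem.2 (Ideal.mem_span_singleton_self c))
  have hrad : Ideal.span {W} = RingHom.ker χ := by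
    refine le_antisymm ((Ideal.span_singleton_le_iff_mem _).2 (AdjoinRoot.lift_root _)) fun p hp => ?_
    obtain ⟨q, rfl⟩ := AdjoinRoot.mk_surjective p
    rw [← Polynomial.X_mul_divX_add q] at hp ⊢
    simp only [RingHom.mem_ker, map_add, map_mul, χ, AdjoinRoot.lift_mk, eval₂_X, eval₂_C, zero_mul, zero_add,
      eval₂_add, eval₂_mul] at hp
    obtain ⟨r, hr⟩ := Ideal.mem_span_singleton'.1 (Ideal.Quotient.eq_zero_iff_mem.1 hp)
    rw [map_add (AdjoinRoot.mk _), map_mul (AdjoinRoot.mk _), AdjoinRoot.mk_X, AdjoinRoot.mk_C, ← hr]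
    refine Ideal.add_mem _ (Ideal.mul_mem_right _ _ (Ideal.mem_span_singleton_self _)) ?_
    rw [map_mul (AdjoinRoot.of _)]
    refine Ideal.mul_mem_left _ _ ?_
    rw [show AdjoinRoot.of _ c = W ^ (N / N.gcd α) from hW.symm]
    exact Ideal.pow_mem_of_mem _ (Ideal.mem_span_singleton_self _) _ hN'
  have hWrad : (Ideal.span {W}).IsRadical := hrad ▸ fun p ⟨m, hm⟩ => by
    rw [RingHom.mem_ker, map_pow] at hm
    exact IsReduced.eq_zero _ ⟨m, hm⟩
  rw [hmap, Ideal.radical_pow _ hN'.ne', hWrad.radical]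

theorem branch_ideals {C : Type u} [CommRing C] [Algebra B C] {N : ℕ} {f : B} {t : C} (S : CovData N f t)
    (u : Bˣ) (v : B) (hv : v ≠ 0) (hvr : (Ideal.span {v}).IsRadical) (α : ℕ) (hα : 0 < α) (hf : f = u * v ^ α)
    (w : Module.Basis (Fin N) B C) (hw : ∀ i : Fin N, algebraMap B C (v ^ ((i : ℕ) * α / N)) * w i = t ^ (i : ℕ)) :
    ((Ideal.span {v}).map (algebraMap B C)).radical ^ (N / N.gcd α) = (Ideal.span {v}).map (algebraMap B C) := by
  obtain ⟨a, ⟨e⟩⟩ := exists_equiv S u v hv α hα hf w hw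
  have h1 := model_ideals N α a S.hN S.hNu u v hvr
  let eR := e.toRingEquiv
  have hmap : ((Ideal.span {v}).map (algebraMap B (Model N α a u v))).map eR.toRingHom = (Ideal.span {v}).map (algebraMap B C) := by
    rw [Ideal.map_map]
    congr 1
    exact RingHom.ext fun r => e.commutes r
  rw [← hmap, ← Ideal.map_radical_of_surjective eR.surjective (by simp [RingHom.ker_eq_bot_iff_eq_zero]),
    ← Ideal.map_pow, h1]

end Groth.Agent.CycCov28
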