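import Groth.Agent.CycCov28.Ramif
import Groth.Agent.FlatMor12.IdealModGen
import Groth.Agent.AmpleLib.Twist
import Groth.Agent.TwistLib.G.Map
import Mathlib.CategoryTheory.Preadditive.Biproducts
import Mathlib.CategoryTheory.Abelian.Basic

/-!
# The direct image of the structure sheaf of a cyclic cover
-/

set_option autoImplicit false
set_option linter.style.haveILetI false
set_option linter.unusedSectionVars false
set_option backward.isDefEq.respectTransparency false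
set_option backward.isDefEq.respectTransparency.types false
set_option maxHeartbeats 1000000

universe u

open CategoryTheory CategoryTheory.Limits AlgebraicGeometry Opposite TopologicalSpace
open Groth.Agent.Coherent Groth.Agent.PicLib Groth.Agent.AmpleLib

namespace Groth.Agent.CycCov28

variable {k : Type u} [Field k] {X Y : Scheme.{u}} (f0 : X ⟶ Spec (CommRingCat.of k)) [Smooth f0] [IsIntegral X]
variable {r : ℕ} {D : Fin r → X.IdealSheafData} {α : Fin r → ℕ}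
variable {L : X.Modules} {N : ℕ} {s : Coh.structureModule X ⟶ CohB1.tensorPow L N} {π : Y ⟶ X}

/-- The equation of the integral part over a chart. -/
noncomputable def LocalData.V {x : X} (Λ : LocalData D α s x) (i : ℕ) : Γ(X, Λ.U) :=
  ∏ j, Λ.v j ^ (i * α j.1 / N)

theorem LocalData.V_ne_zero {x : X} (Λ : LocalData D α s x) (i : ℕ) : Λ.V i ≠ 0 := by
  haveI : Nonempty Λ.U := ⟨⟨x, Λ.hxU⟩⟩
  exact Finset.prod_ne_zero_iff.2 fun j _ => pow_ne_zero _ (Λ.hv0 j)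

theorem floorIdeal_chart {x : X} (Λ : LocalData D α s x) (i : ℕ) :
    (CycCov.floorIdeal D α N i).ideal ⟨Λ.U, Λ.hU⟩ = Ideal.span {Λ.V i} := by
  classical
  rw [CycCov.floorIdeal, CycCov.divIdeal, ideal_prod, LocalData.V]
  simp only [Scheme.IdealSheafData.ideal_pow, Pi.pow_apply]
  rw [← Finset.prod_filter_mul_prod_filter_not Finset.univ (fun j => x ∈ (D j).support),
    Finset.prod_eq_one (s := Finset.univ.filter fun j => ¬ x ∈ (D j).support)
      (fun j hj => by rw [Λ.hDtop j (Finset.mem_filter.1 hj).2, ← Ideal.one_eq_top, one_pow]), mul_one,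
    Finset.prod_subtype (F := fintypeThrough D x) (p := fun j => x ∈ (D j).support) _ (fun j => by simp),
    ← Ideal.prod_span_singleton]
  refine Finset.prod_congr rfl fun j _ => ?_
  rw [← Ideal.span_singleton_pow]
  exact congrArg (· ^ _) (Λ.hD j)

theorem exists_kappa {x : X} (Λ : LocalData D α s x) (i : ℕ) :
    ∃ κ : Γ(ClSub.idealMod (CycCov.floorIdeal D α N i), Λ.U),
      IsGen _ Λ.U κ ∧ (ClSub.idealModι (CycCov.floorIdeal D α N i)).app Λ.U κ = Λ.V i := by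
  haveI : Nonempty Λ.U := ⟨⟨x, Λ.hxU⟩⟩
  have h := floorIdeal_chart Λ i
  obtain ⟨κ, hκ⟩ := (mem_range_idealModι (CycCov.floorIdeal D α N i) Λ.U (Λ.V i)).2 (RingHom.mem_ker.1
    (((CycCov.floorIdeal D α N i).ker_subschemeι_app ⟨Λ.U, Λ.hU⟩).symm ▸ h.ge (Ideal.mem_span_singleton_self _)))
  exact ⟨κ, FlatMor12.IdealModGen.bijective_smul_of_affine_gen _ Λ.hU hκ
    (fun b c h' => mul_left_cancel₀ (Λ.V_ne_zero i) h') h, hκ⟩

/-- The chosen generator of the ideal module over a chart. -/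
noncomputable def LocalData.κ {x : X} (Λ : LocalData D α s x) (i : ℕ) :
    Γ(ClSub.idealMod (CycCov.floorIdeal D α N i), Λ.U) := (exists_kappa Λ i).choose

/-- The generator of the integral part over a chart. -/
noncomputable def LocalData.g {x : X} (Λ : LocalData D α s x) (i : ℕ) : Γ(CycCov.intPart L D α N i, Λ.U) :=
  tmul (powSec Λ.e i) (Λ.κ i)

theorem LocalData.isGen_g {x : X} (Λ : LocalData D α s x) (i : ℕ) : IsGen (CycCov.intPart L D α N i) Λ.U (Λ.g i) :=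
  isGen_tmul (isGen_powSec Λ.he i) (exists_kappa Λ i).choose_spec.1

variable {i : ℕ} {M : X.Modules} (ε : CohB1.tensorMod M (CycCov.intPart L D α N i) ≅ Coh.structureModule X)

theorem exists_dual_gen {x : X} (Λ : LocalData D α s x) :
    ∃ m : Γ(M, Λ.U), IsGen M Λ.U m ∧ ε.hom.app Λ.U (tmul m (Λ.g i)) = oneSec Λ.U := by
  have hb : ∀ (V : X.Opens) (h : V ≤ Λ.U),
      Function.Bijective (fun a : Γ(M, V) => ε.hom.app V (tmul a (resM _ h (Λ.g i)))) := fun V h =>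
    (ConcreteCategory.bijective_of_isIso (ε.hom.app V)).comp (bijective_tmul_gen (Λ.isGen_g i) V h)
  obtain ⟨m, hm⟩ := (hb Λ.U le_rfl).2 (oneSec Λ.U)
  simp only [resM_self] at hm
  refine ⟨m, fun V h => ?_, hm⟩
  have h1 : ε.hom.app V (tmul (resM M h m) (resM _ h (Λ.g i))) = oneSec V := by
    rw [← resM_tmul, app_resM, hm, resM_oneSec]
  have h2 : ∀ a : Γ(X, V), ε.hom.app V (tmul (a • resM M h m) (resM _ h (Λ.g i))) = (a : Γ(Coh.structureModule X, V)) := fun a => by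
    rw [tmul_smul_left, Scheme.Modules.Hom.app_smul, h1]
    exact mul_one a
  refine ⟨fun a b hab => ?_, fun z => ?_⟩
  · exact (h2 a).symm.trans ((congrArg (fun z => ε.hom.app V (tmul z (resM _ h (Λ.g i)))) hab).trans (h2 b))
  · exact ⟨_, (hb V h).1 (h2 _)⟩

/-- The generator of the dual of the integral part over a chart. -/
noncomputable def dualGen {x : X} (Λ : LocalData D α s x) : Γ(M, Λ.U) := (exists_dual_gen ε Λ).choose

include f0 in
theorem exists_branch_gen (hL : PicF.IsInvertible L) (hN : 0 < N) (R : CycCov.Root L N s π) (hR : CycCov.IsCover R)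
    {x : X} (Λ : LocalData D α s x) :
    ∃ w : Fin N → Γ(Y, π ⁻¹ᵁ Λ.U), (∀ i : Fin N, (π.app Λ.U).hom (Λ.V i) * w i = Λ.t R ^ (i : ℕ)) ∧
      Function.Bijective (fun a : Fin N → Γ(X, Λ.U) => ∑ i, (π.app Λ.U).hom (a i) * w i) := by
  letI := (π.app Λ.U).hom.toAlgebra
  obtain ⟨-, w, hw⟩ := exists_basis_local f0 hL hN R hR Λ
  refine ⟨w, hw, ?_⟩
  have h := w.equivFun.symm.bijective
  convert h using 1
  funext a
  rw [w.equivFun_symm_apply]
  exact Finset.sum_congr rfl fun i _ => (Algebra.smul_def _ _).symm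

theorem kappa_coef {x y : X} (Λ : LocalData D α s x) (Φ : LocalData D α s y) {W : X.Opens} (hΛ : W ≤ Λ.U) (hΦ : W ≤ Φ.U) :
    ∃ (l c : Γ(X, W)), resM L hΛ Λ.e = l • resM L hΦ Φ.e ∧ res hΛ (Λ.V i) = c * res hΦ (Φ.V i) ∧
      resM (CycCov.intPart L D α N i) hΛ (Λ.g i) = (l ^ i * c) • resM (CycCov.intPart L D α N i) hΦ (Φ.g i) := by
  obtain ⟨l, hl⟩ := (Φ.he W hΦ).2 (resM L hΛ Λ.e)
  obtain ⟨c, hc⟩ := ((exists_kappa Φ i).choose_spec.1 W hΦ).2 (resM _ hΛ (Λ.κ i))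
  refine ⟨l, c, hl.symm, ?_, ?_⟩
  · have h1 := congrArg ((ClSub.idealModι (CycCov.floorIdeal D α N i)).app W) hc
    rw [Scheme.Modules.Hom.app_smul, app_resM, app_resM, (exists_kappa Φ i).choose_spec.2,
      show (ClSub.idealModι (CycCov.floorIdeal D α N i)).app Λ.U (Λ.κ i) = Λ.V i from (exists_kappa Λ i).choose_spec.2] at h1
    exact h1.symm
  · show resM (CohB1.tensorMod _ _) hΛ (tmul (powSec Λ.e i) (Λ.κ i)) = _ • resM (CohB1.tensorMod _ _) hΦ (tmul (powSec Φ.e i) (Φ.κ i))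
    rw [resM_tmul, resM_tmul, resM_powSec, resM_powSec, ← hl, powSec_smul, ← hc, tmul_smul_smul]
    rfl

/-- Comparison of the generators in two charts. -/
theorem gen_compat (hL : PicF.IsInvertible L) (hN : 0 < N) (R : CycCov.Root L N s π) (hR : CycCov.IsCover R)
    {x y : X} (Λ : LocalData D α s x) (Φ : LocalData D α s y)
    {wΛ : Γ(Y, π ⁻¹ᵁ Λ.U)} (hwΛ : (π.app Λ.U).hom (Λ.V i) * wΛ = Λ.t R ^ i)
    {wΦ : Γ(Y, π ⁻¹ᵁ Φ.U)} (hwΦ : (π.app Φ.U).hom (Φ.V i) * wΦ = Φ.t R ^ i)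
    (W : X.Opens) (hΛ : W ≤ Λ.U) (hΦ : W ≤ Φ.U) (d : Γ(X, W))
    (hd : resM M hΦ (dualGen ε Φ) = d • resM M hΛ (dualGen ε Λ)) :
    resM ((Scheme.Modules.pushforward π).obj (Coh.structureModule Y)) hΦ
        (wΦ : Γ((Scheme.Modules.pushforward π).obj (Coh.structureModule Y), Φ.U)) =
      d • resM ((Scheme.Modules.pushforward π).obj (Coh.structureModule Y)) hΛ
        (wΛ : Γ((Scheme.Modules.pushforward π).obj (Coh.structureModule Y), Λ.U)) := by
  obtain ⟨l, c, hl, hc, hg⟩ := kappa_coef (i := i) Λ Φ hΛ hΦ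
  have hdl : d = l ^ i * c := by
    have h1 : ε.hom.app W (tmul (resM M hΦ (dualGen ε Φ)) (resM _ hΦ (Φ.g i))) = oneSec W := by
      rw [← resM_tmul, app_resM, show ε.hom.app Φ.U (tmul (dualGen ε Φ) (Φ.g i)) = oneSec Φ.U from
        (exists_dual_gen ε Φ).choose_spec.2, resM_oneSec]
    have h2 : ε.hom.app W (tmul (resM M hΛ (dualGen ε Λ)) (resM _ hΛ (Λ.g i))) = oneSec W := by
      rw [← resM_tmul, app_resM, show ε.hom.app Λ.U (tmul (dualGen ε Λ) (Λ.g i)) = oneSec Λ.U from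
        (exists_dual_gen ε Λ).choose_spec.2, resM_oneSec]
    rw [hd, tmul_smul_left, Scheme.Modules.Hom.app_smul] at h1
    rw [hg, tmul_smul_right, Scheme.Modules.Hom.app_smul] at h2
    let A : Γ(X, W) := ε.hom.app W (tmul (resM M hΛ (dualGen ε Λ)) (resM (CycCov.intPart L D α N i) hΦ (Φ.g i)))
    have h1' : d * A = 1 := h1
    have h2' : l ^ i * c * A = 1 := h2
    exact left_inv_eq_right_inv h1' ((mul_comm _ _).trans h2')
  refine sec_ext _ _ _ fun z hz => ?_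
  obtain ⟨W', hW', hzW', hW'W⟩ := exists_isAffineOpen_mem_and_subset hz
  have hW'W' : W' ≤ W := hW'W
  refine ⟨W', hW'W', hzW', ?_⟩
  rw [resM_smul, resM_resM, resM_resM]
  haveI : Nonempty W' := ⟨⟨z, hzW'⟩⟩
  have aΛ : W' ≤ Λ.U := hW'W'.trans hΛ
  have aΦ : W' ≤ Φ.U := hW'W'.trans hΦ
  let ρΛ := (Y.presheaf.map (homOfLE (π.preimage_mono aΛ)).op).hom
  let ρΦ := (Y.presheaf.map (homOfLE (π.preimage_mono aΦ)).op).hom
  show ρΦ wΦ = (π.app W').hom (res hW'W' d) * ρΛ wΛ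
  have nΛ : ∀ b, ρΛ ((π.app Λ.U).hom b) = (π.app W').hom (res aΛ b) := fun b =>
    (ConcreteCategory.congr_hom (π.naturality (homOfLE aΛ).op) b).symm
  have nΦ : ∀ b, ρΦ ((π.app Φ.U).hom b) = (π.app W').hom (res aΦ b) := fun b =>
    (ConcreteCategory.congr_hom (π.naturality (homOfLE aΦ).op) b).symm
  let l' := res hW'W' l
  have hl' : resM L aΛ Λ.e = l' • resM L aΦ Φ.e := by
    rw [← resM_resM L hΛ hW'W', hl, resM_smul, resM_resM]
  have heΛ : IsGen L W' (resM L aΛ Λ.e) := Λ.he.restrict aΛ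
  have heΦ : IsGen L W' (resM L aΦ Φ.e) := Φ.he.restrict aΦ
  have htt : ρΛ (Λ.t R) * (π.app W').hom l' = ρΦ (Φ.t R) := by
    have h1 : ρΛ (Λ.t R) = R.t ⟨W', hW'⟩ (resM L aΛ Λ.e) (cycGen heΛ) :=
      R.t_res ⟨Λ.U, Λ.hU⟩ ⟨W', hW'⟩ aΛ Λ.e (cycGen Λ.he) (cycGen heΛ)
    have h2 : ρΦ (Φ.t R) = R.t ⟨W', hW'⟩ (resM L aΦ Φ.e) (cycGen heΦ) :=
      R.t_res ⟨Φ.U, Φ.hU⟩ ⟨W', hW'⟩ aΦ Φ.e (cycGen Φ.he) (cycGen heΦ)
    rw [h1, h2]
    have h3 := R.t_smul ⟨W', hW'⟩ (resM L aΦ Φ.e) (cycGen heΦ) l' (hl' ▸ cycGen heΛ)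
    simp only [← hl'] at h3
    exact h3
  have hV : res aΛ (Λ.V i) = res hW'W' c * res aΦ (Φ.V i) := by
    rw [← res_res hΛ hW'W', hc, map_mul, res_res]
  have hV0 : res aΦ (Φ.V i) ≠ 0 := fun h0 => by
    haveI : Nonempty Φ.U := ⟨⟨y, Φ.hxU⟩⟩
    exact Φ.V_ne_zero i (map_injective_of_isIntegral X (homOfLE aΦ) (h0.trans (map_zero _).symm))
  rw [hdl]
  refine sub_eq_zero.1 (eq_zero_of_mul_eq_zero hL hN R hR hW' hV0 ?_)
  have e1 : ρΦ wΦ * (π.app W').hom (res aΦ (Φ.V i)) = ρΦ (Φ.t R) ^ i := by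
    rw [← nΦ, ← map_mul, mul_comm, hwΦ, map_pow]
  have e2 : ρΛ wΛ * ((π.app W').hom (res hW'W' c) * (π.app W').hom (res aΦ (Φ.V i))) = ρΛ (Λ.t R) ^ i := by
    rw [← map_mul, ← hV, ← nΛ, ← map_mul, mul_comm, hwΛ, map_pow]
  rw [sub_mul, e1, ← htt, mul_pow, ← e2, map_mul (res hW'W'), map_pow (res hW'W'), map_mul, map_pow]
  ring

include f0 in
theorem exists_isColimit_cofan [IsAlgClosed k] (hL : PicF.IsInvertible L) (hN : 0 < N) (hNk : (N : k) ≠ 0)
    (hD : LogNCD.IsNCD D f0) (hs : CycCov.IsZeroDiv (CohB1.tensorPow L N) s (CycCov.divIdeal D α))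
    (R : CycCov.Root L N s π) (hR : CycCov.IsCover R)
    (M : Fin N → X.Modules) (hM : ∀ i : Fin N, ClSub.IsInverseOf (CycCov.intPart L D α N i) (M i)) :
    ∃ c : ∀ i : Fin N, M i ⟶ (Scheme.Modules.pushforward π).obj (Coh.structureModule Y),
      Nonempty (IsColimit (Cofan.mk ((Scheme.Modules.pushforward π).obj (Coh.structureModule Y)) c)) := by
  classical
  let Q := (Scheme.Modules.pushforward π).obj (Coh.structureModule Y)
  let ε : ∀ i : Fin N, CohB1.tensorMod (M i) (CycCov.intPart L D α N i) ≅ Coh.structureModule X := fun i =>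
    tensorComm _ _ ≪≫ (hM i).some
  choose Φ hΦ hΦc using fun y : X => exists_localData (L := L) (α := α) (s := s) f0 hL hNk hD hs y ⊤ trivial
  choose w hw hwb using fun y : X => exists_branch_gen f0 hL hN R hR (Φ y)
  have hcov : iSup (fun y => (Φ y).U) = ⊤ := top_le_iff.1 fun y _ => Opens.mem_iSup.2 ⟨y, (Φ y).hxU⟩
  have hex : ∀ i : Fin N, ∃ φ : M i ⟶ Q, ∀ y, φ.app (Φ y).U (dualGen (ε i) (Φ y)) = w y i := fun i =>
    exists_hom_of_gen (M := Q) (fun y => (Φ y).U) hcov (fun y => dualGen (ε i) (Φ y))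
      (fun y => (exists_dual_gen (ε i) (Φ y)).choose_spec.1) (fun y => (w y i : Γ(Q, (Φ y).U)))
      fun a b W ha hb d hd => gen_compat (ε i) hL hN R hR (Φ b) (Φ a) (hw b i) (hw a i) W hb ha d hd
  choose c hc using hex
  refine ⟨c, ?_⟩
  haveI : HasFiniteProducts X.Modules := inferInstance
  haveI : HasFiniteBiproducts X.Modules := HasFiniteBiproducts.of_hasFiniteProducts
  let φ : (⨁ M) ⟶ Q := biproduct.desc c
  -- the images of the generators in every chart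
  have hchart : ∀ {x : X} (Λ : LocalData D α s x) (wΛ : Fin N → Γ(Y, π ⁻¹ᵁ Λ.U)),
      (∀ i : Fin N, (π.app Λ.U).hom (Λ.V i) * wΛ i = Λ.t R ^ (i : ℕ)) →
      ∀ i, (c i).app Λ.U (dualGen (ε i) Λ) = (wΛ i : Γ(Q, Λ.U)) := by
    intro x Λ wΛ hwΛ i
    refine sec_ext Q _ _ fun z hz => ?_
    refine ⟨Λ.U ⊓ (Φ z).U, inf_le_left, ⟨hz, (Φ z).hxU⟩, ?_⟩
    obtain ⟨d, hd⟩ := ((exists_dual_gen (ε i) (Φ z)).choose_spec.1 (Λ.U ⊓ (Φ z).U) inf_le_right).2
      (resM (M i) inf_le_left (dualGen (ε i) Λ))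
    rw [← app_resM, ← hd, Scheme.Modules.Hom.app_smul, app_resM]
    rw [show (c i).app (Φ z).U (exists_dual_gen (ε i) (Φ z)).choose = w z i from hc i z]
    exact (gen_compat (ε i) hL hN R hR (Φ z) Λ (hw z i) (hwΛ i) _ inf_le_right inf_le_left d hd.symm).symm
  haveI : IsIso φ := by
    refine TwistLib.G.isIso_of_bijective_on_basis φ (fun B => ∃ (x : X) (Λ : LocalData D α s x), Λ.U = B) ?_ ?_
    · intro V y hy
      obtain ⟨Λ, hΛ, -⟩ := exists_localData (L := L) (α := α) (s := s) f0 hL hNk hD hs y V hy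
      exact ⟨_, ⟨y, Λ, rfl⟩, Λ.hxU, hΛ⟩
    rintro _ ⟨x, Λ, rfl⟩
    obtain ⟨wΛ, hwΛ, hbij⟩ := exists_branch_gen f0 hL hN R hR Λ
    have hι : ∀ (a : Fin N → Γ(X, Λ.U)), φ.app Λ.U (∑ i, (biproduct.ι M i).app Λ.U (a i • dualGen (ε i) Λ)) =
        ∑ i, (π.app Λ.U).hom (a i) * wΛ i := fun a => by
      rw [map_sum]
      refine Finset.sum_congr rfl fun i _ => ?_
      rw [← ConcreteCategory.comp_apply, ← Scheme.Modules.Hom.comp_app, biproduct.ι_desc, Scheme.Modules.Hom.app_smul,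
        hchart Λ wΛ hwΛ i]
      rfl
    have htot : ∀ z : Γ(⨁ M, Λ.U), ∃ a : Fin N → Γ(X, Λ.U),
        ∑ i, (biproduct.ι M i).app Λ.U (a i • dualGen (ε i) Λ) = z := fun z => by
      choose a ha using fun i => ((exists_dual_gen (ε i) Λ).choose_spec.1 Λ.U le_rfl).2 ((biproduct.π M i).app Λ.U z)
      refine ⟨a, ?_⟩
      let ev : ((⨁ M) ⟶ (⨁ M)) →+ Γ(⨁ M, Λ.U) := AddMonoidHom.mk' (fun f => f.app Λ.U z) (fun f g => rfl)
      have h1 := congrArg ev (biproduct.total (f := M))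
      rw [map_sum] at h1
      refine Eq.trans ?_ (h1.trans (show ev (𝟙 _) = z from rfl))
      refine Finset.sum_congr rfl fun i _ => ?_
      show _ = (biproduct.π M i ≫ biproduct.ι M i).app Λ.U z
      rw [Scheme.Modules.Hom.comp_app, ConcreteCategory.comp_apply, ← ha i, resM_self]
      rfl
    refine ⟨fun z z' h => ?_, fun z => ?_⟩
    · obtain ⟨a, rfl⟩ := htot z
      obtain ⟨a', rfl⟩ := htot z'
      rw [hι, hι] at h
      rw [hbij.1 h]
    · obtain ⟨a, ha⟩ := hbij.2 z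
      exact ⟨_, (hι a).trans ha⟩
  exact ⟨IsColimit.ofIsoColimit (biproduct.isColimit M)
    (Cofan.ext (asIso φ) fun i => by simp [φ])⟩

end Groth.Agent.CycCov28
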