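import Groth.Agent.CycCov28.Etale
import Groth.Agent.CycCov28.OneBranch
import Groth.Agent.ProjLib.IdealComap

/-!
# Ramification along the branch divisor
-/

set_option autoImplicit false
set_option linter.style.haveILetI false
set_option linter.unusedSectionVars false
set_option backward.isDefEq.respectTransparency false
set_option backward.isDefEq.respectTransparency.types false
set_option maxHeartbeats 1000000

universe u

open CategoryTheory CategoryTheory.Limits AlgebraicGeometry Opposite TopologicalSpace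
open Groth.Agent.Coherent Groth.Agent.PicLib Groth.Agent.AmpleLib

namespace Groth.Agent.CycCov28

/-- Ideal sheaves agreeing near every point of an affine open agree on it. -/
theorem ideal_eq_of_local {Y : Scheme.{u}} (I J : Y.IdealSheafData) (V : Y.affineOpens)
    (h : ∀ y ∈ V.1, ∃ U : Y.affineOpens, y ∈ U.1 ∧ I.ideal U = J.ideal U) : I.ideal V = J.ideal V := by
  suffices ∀ A B : Y.IdealSheafData, (∀ y ∈ V.1, ∃ U : Y.affineOpens, y ∈ U.1 ∧ A.ideal U = B.ideal U) →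
      A.ideal V ≤ B.ideal V from
    le_antisymm (this I J h) (this J I fun y hy => (h y hy).imp fun U hU => ⟨hU.1, hU.2.symm⟩)
  intro A B h a ha
  let K : Ideal Γ(Y, V.1) := (B.ideal V).colon {a}
  by_contra hab
  have hK : K ≠ ⊤ := fun hK => hab (by
    have := Submodule.mem_colon_singleton.1 (hK.ge (Submodule.mem_top (x := (1 : Γ(Y, V.1)))))
    rwa [one_smul] at this)
  obtain ⟨p, hp, hKp⟩ := Ideal.exists_le_maximal K hK
  let P : PrimeSpectrum Γ(Y, V.1) := ⟨p, hp.isPrime⟩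
  have hy : V.2.fromSpec P ∈ V.1 := V.2.range_fromSpec.le ⟨_, rfl⟩
  obtain ⟨U, hyU, hU⟩ := h _ hy
  obtain ⟨f, g, hfg, hyf⟩ := exists_basicOpen_le_affine_inter V.2 U.2 (V.2.fromSpec P) ⟨hy, hyU⟩
  have hfp : f ∉ p := by
    have h1 : P ∈ V.2.fromSpec ⁻¹ᵁ Y.basicOpen f := hyf
    rw [V.2.fromSpec_preimage_basicOpen] at h1
    exact h1
  have hfU : Y.affineBasicOpen f = Y.affineBasicOpen g := Subtype.ext hfg
  have e : A.ideal (Y.affineBasicOpen f) = B.ideal (Y.affineBasicOpen f) := by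
    rw [hfU, ← A.map_ideal_basicOpen, ← B.map_ideal_basicOpen, hU]
  rw [← A.map_ideal_basicOpen, ← B.map_ideal_basicOpen] at e
  letI : Algebra Γ(Y, V.1) Γ(Y, Y.basicOpen f) := (Y.presheaf.map (homOfLE (Y.basicOpen_le f)).op).hom.toAlgebra
  haveI : IsLocalization.Away f Γ(Y, Y.basicOpen f) := V.2.isLocalization_basicOpen f
  have h2 : algebraMap Γ(Y, V.1) Γ(Y, Y.basicOpen f) a ∈ (B.ideal V).map (algebraMap Γ(Y, V.1) Γ(Y, Y.basicOpen f)) :=
    e.le (Ideal.mem_map_of_mem _ ha)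
  obtain ⟨_, ⟨n, rfl⟩, hn⟩ := (IsLocalization.algebraMap_mem_map_algebraMap_iff (Submonoid.powers f) _ _ _).1 h2
  exact hfp (hp.isPrime.mem_of_pow_mem n (hKp (Submodule.mem_colon_singleton.2 hn)))

/-- The ideal of a product. -/
theorem ideal_prod {Y : Scheme.{u}} {ι : Type*} (S : Finset ι) (I : ι → Y.IdealSheafData) (V : Y.affineOpens) :
    (∏ j ∈ S, I j).ideal V = ∏ j ∈ S, (I j).ideal V :=
  map_prod ({ toFun := fun J : Y.IdealSheafData => J.ideal V,
              map_one' := by show (⊤ : Y.IdealSheafData).ideal _ = 1; rw [Scheme.IdealSheafData.ideal_top, Pi.top_apply, Ideal.one_eq_top],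
              map_mul' := fun _ _ => rfl } : Y.IdealSheafData →* Ideal Γ(Y, V.1)) I S

theorem map_ideal_prod {A B : Type*} [CommRing A] [CommRing B] (φ : A →+* B) {ι : Type*} (S : Finset ι) (I : ι → Ideal A) :
    (∏ j ∈ S, I j).map φ = ∏ j ∈ S, (I j).map φ := by
  classical
  induction S using Finset.induction_on with
  | empty => rw [Finset.prod_empty, Finset.prod_empty, Ideal.one_eq_top, Ideal.map_top, Ideal.one_eq_top]
  | insert i S hi ih => rw [Finset.prod_insert hi, Finset.prod_insert hi, Ideal.map_mul, ih]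

variable {k : Type u} [Field k] {X Y : Scheme.{u}} (f0 : X ⟶ Spec (CommRingCat.of k)) [Smooth f0] [IsIntegral X]
variable {r : ℕ} {D : Fin r → X.IdealSheafData} {α : Fin r → ℕ}
variable {L : X.Modules} {N : ℕ} {s : Coh.structureModule X ⟶ CohB1.tensorPow L N} {π : Y ⟶ X}

/-- The pull-back of a component over a chart. -/
theorem comap_ideal_chart [IsAffineHom π] {x : X} (Λ : LocalData D α s x) (j : Fin r) :
    ((D j).comap π).ideal ⟨π ⁻¹ᵁ Λ.U, Λ.hU.preimage π⟩ = ((D j).ideal ⟨Λ.U, Λ.hU⟩).map (π.app Λ.U).hom := by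
  rw [ProjLib.comap_ideal_eq (D j) π ⟨Λ.U, Λ.hU⟩ ⟨π ⁻¹ᵁ Λ.U, Λ.hU.preimage π⟩ le_rfl, ← Scheme.Hom.app_eq_appLE]

include f0 in
theorem comap_eq_radical_pow_chart [IsAffineHom π] (hL : PicF.IsInvertible L) (hN : 0 < N) (R : CycCov.Root L N s π)
    (hR : CycCov.IsCover R) {x : X} (Λ : LocalData D α s x) (hone : ∀ j j' : LogNCD.Through D x, j = j') (j : Fin r) :
    ((D j).comap π).ideal ⟨π ⁻¹ᵁ Λ.U, Λ.hU.preimage π⟩ =
      (((D j).comap π).radical ^ (N / N.gcd (α j))).ideal ⟨π ⁻¹ᵁ Λ.U, Λ.hU.preimage π⟩ := by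
  rw [Scheme.IdealSheafData.ideal_pow, Pi.pow_apply, Scheme.IdealSheafData.radical_ideal, comap_ideal_chart Λ j]
  have hpos : 0 < N / N.gcd (α j) :=
    Nat.div_pos (Nat.le_of_dvd hN (Nat.gcd_dvd_left _ _)) (Nat.gcd_pos_of_pos_left _ hN)
  by_cases hx : x ∈ (D j).support
  swap
  · rw [Λ.hDtop j hx, Ideal.map_top, Ideal.radical_top, ← Ideal.one_eq_top, one_pow]
  · let j₀ : LogNCD.Through D x := ⟨j, hx⟩
    haveI : Subsingleton (LogNCD.Through D x) := ⟨hone⟩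
    letI := (π.app Λ.U).hom.toAlgebra
    haveI : Nonempty Λ.U := ⟨⟨x, Λ.hxU⟩⟩
    obtain ⟨S, w, hw⟩ := exists_basis_local f0 hL hN R hR Λ
    have hf := Λ.hfac
    have hrad := Λ.hrad
    rw [Fintype.prod_subsingleton _ j₀] at hf hrad
    have hw' : ∀ i : Fin N, algebraMap _ _ (Λ.v j₀ ^ ((i : ℕ) * α j / N)) * w i = Λ.t R ^ (i : ℕ) := fun i => by
      have := hw i
      rwa [Fintype.prod_subsingleton _ j₀] at this
    rw [show (D j).ideal ⟨Λ.U, Λ.hU⟩ = Ideal.span {Λ.v j₀} from Λ.hD j₀]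
    rcases Nat.eq_zero_or_pos (α j) with h0 | hpos'
    · haveI : Algebra.Etale Γ(X, Λ.U) Γ(Y, π ⁻¹ᵁ Λ.U) := etale_of_basis N hN Λ.hNu Λ.u (Λ.t R)
        (by rw [S.ht, hf]; simp [j₀, h0]) w (fun i => by simpa [h0] using hw' i)
      rw [h0, Nat.gcd_zero_right, Nat.div_self hN, pow_one]
      exact (isRadical_map_of_etale _ hrad).radical.symm
    · exact (branch_ideals S Λ.u (Λ.v j₀) (Λ.hv0 j₀) hrad (α j) hpos' hf w hw').symm

include f0 in
theorem comap_ideal_eq_radical_pow [IsAlgClosed k] (hL : PicF.IsInvertible L) (hN : 0 < N) (hNk : (N : k) ≠ 0)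
    (hD : LogNCD.IsNCD D f0) (hs : CycCov.IsZeroDiv (CohB1.tensorPow L N) s (CycCov.divIdeal D α))
    (R : CycCov.Root L N s π) (hR : CycCov.IsCover R)
    (W : X.Opens) (hW : ∀ x ∈ W, ∀ j j' : Fin r, x ∈ (D j).support → x ∈ (D j').support → j = j')
    (j : Fin r) (V : Y.affineOpens) (hV : V.1 ≤ π ⁻¹ᵁ W) :
    ((D j).comap π).ideal V = (((D j).comap π).radical ^ (N / N.gcd (α j))).ideal V := by
  haveI : IsFinite π := hR.1
  refine ideal_eq_of_local _ _ V fun y hy => ?_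
  obtain ⟨Λ, -, -⟩ := exists_localData f0 hL hNk hD hs (π y) W (hV hy)
  exact ⟨⟨π ⁻¹ᵁ Λ.U, Λ.hU.preimage π⟩, Λ.hxU, comap_eq_radical_pow_chart f0 hL hN R hR Λ
    (fun a b => Subtype.ext (hW (π y) (hV hy) a.1 b.1 a.2 b.2)) j⟩

include f0 in
theorem divIdeal_comap_eq_prod [IsAlgClosed k] (hL : PicF.IsInvertible L) (hN : 0 < N) (hNk : (N : k) ≠ 0)
    (hD : LogNCD.IsNCD D f0) (hs : CycCov.IsZeroDiv (CohB1.tensorPow L N) s (CycCov.divIdeal D α))
    (R : CycCov.Root L N s π) (hR : CycCov.IsCover R)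
    (W : X.Opens) (hW : ∀ x ∈ W, ∀ j j' : Fin r, x ∈ (D j).support → x ∈ (D j').support → j = j')
    (V : Y.affineOpens) (hV : V.1 ≤ π ⁻¹ᵁ W) :
    ((CycCov.divIdeal D α).comap π).ideal V =
      (∏ j : Fin r, ((D j).comap π).radical ^ (N * α j / Nat.gcd N (α j))).ideal V := by
  haveI : IsFinite π := hR.1
  refine ideal_eq_of_local _ _ V fun y hy => ?_
  obtain ⟨Λ, -, -⟩ := exists_localData f0 hL hNk hD hs (π y) W (hV hy)
  refine ⟨⟨π ⁻¹ᵁ Λ.U, Λ.hU.preimage π⟩, Λ.hxU, ?_⟩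
  rw [ProjLib.comap_ideal_eq _ π ⟨Λ.U, Λ.hU⟩ ⟨π ⁻¹ᵁ Λ.U, Λ.hU.preimage π⟩ le_rfl, ← Scheme.Hom.app_eq_appLE,
    CycCov.divIdeal, ideal_prod, ideal_prod, map_ideal_prod]
  refine Finset.prod_congr rfl fun j _ => ?_
  have h := comap_eq_radical_pow_chart f0 hL hN R hR Λ (fun a b => Subtype.ext (hW (π y) (hV hy) a.1 b.1 a.2 b.2)) j
  rw [comap_ideal_chart Λ j] at h
  simp only [Scheme.IdealSheafData.ideal_pow, Pi.pow_apply] at h ⊢
  rw [Ideal.map_pow, h, ← pow_mul]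
  congr 1
  exact Nat.div_mul_right_comm (Nat.gcd_dvd_left N (α j)) (α j)

end Groth.Agent.CycCov28
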