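import Groth.Agent.CycCov28.Algebra
import Groth.Prelude.Def_CycCov
import Groth.Agent.AmpleLib.Power
import Groth.Agent.FlatMorLocalStr.SmoothFibres
import Groth.Agent.NormalExtLib.Basic
import Mathlib.RingTheory.AdjoinRoot

/-!
# The algebra of a cyclic cover over an affine open
-/

set_option autoImplicit false
set_option linter.style.haveILetI false
set_option linter.unusedSectionVars false
set_option backward.isDefEq.respectTransparency false
set_option backward.isDefEq.respectTransparency.types false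
set_option maxHeartbeats 800000

universe u

open CategoryTheory AlgebraicGeometry Opposite TopologicalSpace Polynomial
open Groth.Agent.Coherent Groth.Agent.PicLib Groth.Agent.AmpleLib

namespace Groth.Agent.CycCov28

variable {X Y : Scheme.{u}} {L : X.Modules}

theorem lpow_eq (U : X.Opens) (e : Γ(L, U)) : ∀ n : ℕ, CycCov.lpow L U e n = powSec e n
  | 0 => rfl
  | n + 1 => by
    show SecTwist.tmul (CohB1.tensorPow L n) L U (CycCov.lpow L U e n) e = _
    rw [lpow_eq U e n]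
    rfl

theorem cycGen {U : X.Opens} {e : Γ(L, U)} (he : IsGen L U e) : CycCov.IsGen L U e := by
  have h := he U le_rfl
  simp only [resM_self] at h
  exact h

theorem val_res {N : ℕ} {s : Coh.structureModule X ⟶ CohB1.tensorPow L N} {U V : X.Opens} (h : V ≤ U) {e : Γ(L, U)}
    {f : Γ(X, U)} (hf : SecTwist.val s U = f • CycCov.lpow L U e N) :
    SecTwist.val s V = res h f • CycCov.lpow L V (resM L h e) N := by
  have h1 : resM (CohB1.tensorPow L N) h (unitVal s U) = resM (CohB1.tensorPow L N) h (f • powSec e N) :=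
    congrArg (resM (CohB1.tensorPow L N) h) (hf.trans (by rw [lpow_eq]))
  rw [resM_unitVal, resM_smul, resM_powSec] at h1
  rw [lpow_eq]
  exact h1

/-- Coefficients of elements of `B[T]/(T^N - f)`. -/
theorem exists_coeff {R : Type u} [CommRing R] [Nontrivial R] (N : ℕ) (hN : 0 < N) (f : R)
    (z : AdjoinRoot (Polynomial.X ^ N - Polynomial.C f : R[X])) :
    ∃ a : Fin N → R, z = ∑ i, AdjoinRoot.of _ (a i) * AdjoinRoot.root _ ^ (i : ℕ) := by
  obtain ⟨q, rfl⟩ := AdjoinRoot.mk_surjective z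
  have hG : (Polynomial.X ^ N - Polynomial.C f : R[X]).Monic := monic_X_pow_sub_C f hN.ne'
  refine ⟨fun i => (q %ₘ (Polynomial.X ^ N - Polynomial.C f)).coeff i, ?_⟩
  have h1 : AdjoinRoot.mk (Polynomial.X ^ N - Polynomial.C f) q = AdjoinRoot.mk _ (q %ₘ (Polynomial.X ^ N - Polynomial.C f)) :=
    AdjoinRoot.mk_eq_mk.2 ⟨q /ₘ (Polynomial.X ^ N - Polynomial.C f), by linear_combination -(modByMonic_add_div q (Polynomial.X ^ N - Polynomial.C f : R[X]))⟩
  rw [h1]
  have hdeg : (q %ₘ (Polynomial.X ^ N - Polynomial.C f)).natDegree < N := by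
    by_cases h0 : q %ₘ (Polynomial.X ^ N - Polynomial.C f) = 0
    · rw [h0, natDegree_zero]; exact hN
    · have := natDegree_lt_natDegree h0 (degree_modByMonic_lt q hG)
      rwa [natDegree_X_pow_sub_C] at this
  conv_lhs => rw [as_sum_range' _ N hdeg]
  rw [map_sum, ← Fin.sum_univ_eq_sum_range (fun j => AdjoinRoot.mk (Polynomial.X ^ N - Polynomial.C f) (monomial j ((q %ₘ (Polynomial.X ^ N - Polynomial.C f)).coeff j)))]
  refine Finset.sum_congr rfl fun i _ => ?_
  rw [← C_mul_X_pow_eq_monomial, map_mul, map_pow, AdjoinRoot.mk_C, AdjoinRoot.mk_X]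

theorem coeff_eq_zero {R : Type u} [CommRing R] [Nontrivial R] (N : ℕ) (f : R) (a : Fin N → R)
    (h : ∑ i, AdjoinRoot.of (Polynomial.X ^ N - Polynomial.C f : R[X]) (a i) * AdjoinRoot.root _ ^ (i : ℕ) = 0) : a = 0 := by
  classical
  rcases Nat.eq_zero_or_pos N with rfl | hN
  · exact funext fun i => i.elim0
  let P : R[X] := ∑ i, Polynomial.C (a i) * Polynomial.X ^ (i : ℕ)
  have hP : AdjoinRoot.mk (Polynomial.X ^ N - Polynomial.C f) P = 0 := by
    simp only [P, map_sum, map_mul, map_pow, AdjoinRoot.mk_C, AdjoinRoot.mk_X]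
    exact h
  have hdeg : P.degree < (Polynomial.X ^ N - Polynomial.C f : R[X]).degree := by
    rw [degree_X_pow_sub_C hN]
    refine (degree_sum_le _ _).trans_lt ((Finset.sup_lt_iff (WithBot.bot_lt_coe N)).2 fun i _ => ?_)
    exact (degree_C_mul_X_pow_le _ _).trans_lt (WithBot.coe_lt_coe.2 i.2)
  have h0 : P = 0 := by
    by_contra hne
    exact (monic_X_pow_sub_C f hN.ne').not_dvd_of_degree_lt hne hdeg (AdjoinRoot.mk_eq_zero.1 hP)
  funext i
  have := congrArg (fun p : R[X] => p.coeff i) h0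
  simpa [P, Polynomial.finset_sum_coeff, coeff_C_mul, coeff_X_pow, Fin.val_inj] using this

variable {N : ℕ} {s : Coh.structureModule X ⟶ CohB1.tensorPow L N} {π : Y ⟶ X}

/-- The image of a coefficient vector in the cover. -/
theorem chart_sum (R : CycCov.Root L N s π) (U : X.affineOpens) (e : Γ(L, U.1)) (he : CycCov.IsGen L U.1 e)
    (f : Γ(X, U.1)) (hf : SecTwist.val s U.1 = f • CycCov.lpow L U.1 e N) (a : Fin N → Γ(X, U.1)) :
    CycCov.chart R U e he f hf (∑ i, AdjoinRoot.of _ (a i) * AdjoinRoot.root _ ^ (i : ℕ)) =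
      ∑ i, (π.app U.1).hom (a i) * R.t U e he ^ (i : ℕ) := by
  simp only [map_sum, map_mul, map_pow, CycCov.chart, AdjoinRoot.lift_of, AdjoinRoot.lift_root]

/-- Regular elements of the base are regular upstairs. -/
theorem eq_zero_of_mul_eq_zero [IsIntegral X] (hL : PicF.IsInvertible L) (hN : 0 < N) (R : CycCov.Root L N s π)
    (hR : CycCov.IsCover R) {U : X.Opens} (hU : IsAffineOpen U) {g : Γ(X, U)} (hg : g ≠ 0) {c : Γ(Y, π ⁻¹ᵁ U)}
    (h : c * (π.app U).hom g = 0) : c = 0 := by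
  obtain ⟨hfin, hY, W, hWd, hWd', hchart⟩ := hR
  haveI := NeronLib.isReduced_of_normal hY
  rw [← basicOpen_eq_bot_iff]
  refine TopologicalSpace.Opens.ext (Set.eq_empty_iff_forall_notMem.2 fun y hy => ?_)
  obtain ⟨y', hy', hyW⟩ := hWd'.inter_open_nonempty _ (Y.basicOpen c).isOpen ⟨y, hy⟩
  have hy'U : π y' ∈ U := Y.basicOpen_le c hy'
  obtain ⟨V₁, hyV₁, e₁, he₁⟩ := exists_isGen hL (π y')
  obtain ⟨V, hV, hyV, hVle⟩ := exists_isAffineOpen_mem_and_subset (x := π y') (U := U ⊓ W ⊓ V₁) ⟨⟨hy'U, hyW⟩, hyV₁⟩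
  have hVU : V ≤ U := fun z hz => (hVle hz).1.1
  have hVW : V ≤ W := fun z hz => (hVle hz).1.2
  have hV₁ : V ≤ V₁ := fun z hz => (hVle hz).2
  let e := resM L hV₁ e₁
  have he : IsGen L V e := he₁.restrict hV₁
  obtain ⟨f, hf⟩ : ∃ f : Γ(X, V), SecTwist.val s V = f • CycCov.lpow L V e N := by
    obtain ⟨f, hf⟩ := (isGen_powSec he N V le_rfl).2 (SecTwist.val s V)
    refine ⟨f, ?_⟩
    rw [lpow_eq]
    simp only [resM_self] at hf
    exact hf.symm
  haveI : Nonempty V := ⟨⟨π y', hyV⟩⟩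
  haveI : Nonempty U := ⟨⟨π y', hy'U⟩⟩
  have hb := hchart ⟨V, hV⟩ hVW e (cycGen he) f hf
  obtain ⟨z, hz⟩ := hb.2 (Y.presheaf.map (homOfLE (π.preimage_mono hVU)).op c)
  have hg' : res hVU g ≠ 0 := fun h0 => hg (map_injective_of_isIntegral X (homOfLE hVU) (h0.trans (map_zero _).symm))
  have hz0 : z = 0 := by
    obtain ⟨a, rfl⟩ := exists_coeff N hN f z
    have h1 : CycCov.chart R ⟨V, hV⟩ e (cycGen he) f hf
        (∑ i, AdjoinRoot.of _ (res hVU g * a i) * AdjoinRoot.root _ ^ (i : ℕ)) = 0 := by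
      simp only [map_mul, mul_assoc, ← Finset.mul_sum]
      rw [hz]
      show ((CycCov.chart R ⟨V, hV⟩ e (cycGen he) f hf) (AdjoinRoot.of _ (res hVU g))) * _ = 0
      rw [show (CycCov.chart R ⟨V, hV⟩ e (cycGen he) f hf) (AdjoinRoot.of _ (res hVU g)) =
        (π.app V).hom (res hVU g) from AdjoinRoot.lift_of _]
      have h2 := congrArg (Y.presheaf.map (homOfLE (π.preimage_mono hVU)).op) h
      rw [map_mul, map_zero] at h2
      rw [mul_comm, ← h2]
      congr 1
      exact ConcreteCategory.congr_hom (π.naturality (homOfLE hVU).op) g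
    have h3 := coeff_eq_zero N f _ (hb.1 (h1.trans (map_zero _).symm))
    have ha : a = 0 := funext fun i => (mul_eq_zero.1 (congrFun h3 i)).resolve_left hg'
    simp [ha]
  rw [hz0, map_zero] at hz
  have : y' ∈ Y.basicOpen (Y.presheaf.map (homOfLE (π.preimage_mono hVU)).op c) := by
    rw [Scheme.basicOpen_res]
    exact ⟨hyV, hy'⟩
  rw [← hz, Scheme.basicOpen_zero] at this
  exact this.elim

/-- Divisibility of regular elements of a normal scheme is tested on powers. -/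
theorem dvd_of_pow_dvd_pow {C : Type u} [CommRing C]
    (hC : ∀ p : Ideal C, [p.IsPrime] → IsDomain (Localization.AtPrime p) ∧ IsIntegrallyClosed (Localization.AtPrime p))
    (x y : C) (n : ℕ) (hn : 0 < n) (hx : x ∈ nonZeroDivisors C) (h : x ^ n ∣ y ^ n) : x ∣ y := by
  let J : Ideal C := (Ideal.span {x}).colon {y}
  by_contra hxy
  have hJ : J ≠ ⊤ := fun hJ => hxy (by
    have := Submodule.mem_colon_singleton.1 (hJ.ge (Submodule.mem_top (x := (1 : C))))
    rwa [one_smul, Ideal.mem_span_singleton] at this)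
  obtain ⟨p, hp, hJp⟩ := Ideal.exists_le_maximal J hJ
  haveI := hp.isPrime
  obtain ⟨_, _⟩ := hC p
  obtain ⟨q, hq⟩ := (IsIntegrallyClosed.pow_dvd_pow_iff hn.ne').1
    (show algebraMap C (Localization.AtPrime p) x ^ n ∣ algebraMap C _ y ^ n by
      rw [← map_pow, ← map_pow]; exact map_dvd _ h)
  obtain ⟨a, b, rfl⟩ := IsLocalization.exists_mk'_eq p.primeCompl q
  rw [IsLocalization.mul_mk'_eq_mk'_of_mul, IsLocalization.eq_mk'_iff_mul_eq, ← map_mul] at hq
  obtain ⟨c, hc⟩ := (IsLocalization.eq_iff_exists p.primeCompl _).1 hq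
  exact (c * b).2 (hJp (Submodule.mem_colon_singleton.2 (Ideal.mem_span_singleton.2
    ⟨(c : C) * a, by rw [smul_eq_mul, Submonoid.coe_mul]; linear_combination hc⟩)))

/-- The cover algebra data over an affine open with a frame. -/
theorem exists_covData [IsIntegral X] (hL : PicF.IsInvertible L) (hN : 0 < N) (R : CycCov.Root L N s π)
    (hR : CycCov.IsCover R) {U : X.Opens} (hU : IsAffineOpen U) [Nonempty U] (e : Γ(L, U)) (he : IsGen L U e)
    (f : Γ(X, U)) (hf : SecTwist.val s U = f • CycCov.lpow L U e N) (hNu : IsUnit (N : Γ(X, U))) (ζ : Γ(X, U))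
    (hζ : IsPrimitiveRoot ζ N) :
    letI := (π.app U).hom.toAlgebra
    Nonempty (CovData N f (R.t ⟨U, hU⟩ e (cycGen he))) := by
  letI := (π.app U).hom.toAlgebra
  obtain ⟨hfin, hY, W, hWd, hWd', hchart⟩ := id hR
  haveI := hfin
  obtain ⟨x₀, hx₀U, hx₀W⟩ := hWd.inter_open_nonempty (U : Set X) U.isOpen (by obtain ⟨⟨a, ha⟩⟩ := ‹Nonempty U›; exact ⟨a, ha⟩)
  obtain ⟨g, hgle, hx₀g⟩ := hU.exists_basicOpen_le (⟨x₀, hx₀W⟩ : W) hx₀U
  have hg : g ≠ 0 := fun h0 => by
    rw [h0, Scheme.basicOpen_zero] at hx₀g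
    exact hx₀g
  let V := X.basicOpen g
  have hVU : V ≤ U := X.basicOpen_le g
  haveI : Nonempty V := ⟨⟨x₀, hx₀g⟩⟩
  have hV : IsAffineOpen V := hU.basicOpen g
  have he' : IsGen L V (resM L hVU e) := he.restrict hVU
  have hf' := val_res hVU hf
  have hb := hchart ⟨V, hV⟩ hgle (resM L hVU e) (cycGen he') (res hVU f) hf'
  let rY : Γ(Y, π ⁻¹ᵁ U) →+* Γ(Y, π ⁻¹ᵁ V) := (Y.presheaf.map (homOfLE (π.preimage_mono hVU)).op).hom
  have hrt : rY (R.t ⟨U, hU⟩ e (cycGen he)) = R.t ⟨V, hV⟩ (resM L hVU e) (cycGen he') :=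
    R.t_res ⟨U, hU⟩ ⟨V, hV⟩ hVU e (cycGen he) (cycGen he')
  have hra : ∀ b : Γ(X, U), rY ((π.app U).hom b) = (π.app V).hom (res hVU b) := fun b =>
    (ConcreteCategory.congr_hom (π.naturality (homOfLE hVU).op) b).symm
  have hsum : ∀ a : Fin N → Γ(X, U), rY (∑ i, a i • R.t ⟨U, hU⟩ e (cycGen he) ^ (i : ℕ)) =
      CycCov.chart R ⟨V, hV⟩ (resM L hVU e) (cycGen he') (res hVU f) hf'
        (∑ i, AdjoinRoot.of _ (res hVU (a i)) * AdjoinRoot.root _ ^ (i : ℕ)) := fun a => by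
    rw [chart_sum, map_sum]
    refine Finset.sum_congr rfl fun i _ => ?_
    rw [Algebra.smul_def, map_mul, map_pow, hrt]
    exact congrArg (· * _) (hra (a i))
  have hgC : (π.app U).hom g ∈ nonZeroDivisors Γ(Y, π ⁻¹ᵁ U) :=
    mem_nonZeroDivisors_iff_right.2 fun c hc => eq_zero_of_mul_eq_zero hL hN R hR hU hg hc
  have hUY : IsAffineOpen (π ⁻¹ᵁ U) := hU.preimage π
  letI : Algebra Γ(Y, π ⁻¹ᵁ U) Γ(Y, π ⁻¹ᵁ V) := rY.toAlgebra
  haveI hloc : IsLocalization.Away ((π.app U).hom g) Γ(Y, π ⁻¹ᵁ V) :=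
    hUY.isLocalization_of_eq_basicOpen _ (homOfLE (π.preimage_mono hVU)) (π.preimage_basicOpen g)
  have hrY : Function.Injective rY := IsLocalization.injective (M := Submonoid.powers ((π.app U).hom g))
    Γ(Y, π ⁻¹ᵁ V) (Submonoid.powers_le.2 hgC)
  letI : Algebra Γ(X, U) Γ(X, V) := (res hVU).toAlgebra
  haveI : IsLocalization.Away g Γ(X, V) := hU.isLocalization_of_eq_basicOpen g (homOfLE hVU) rfl
  refine ⟨{
    hN := hN
    hNu := hNu
    ζ := ζ
    hζ := hζ
    ht := R.pow_eq ⟨U, hU⟩ e (cycGen he) f hf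
    g := g
    hg := hg
    hgC := hgC
    hinj := fun a ha => ?_
    hexp := fun c => ?_
    hclosed := fun x y n hn hx h => dvd_of_pow_dvd_pow (fun p hp => ?_) x y n hn hx h
    integral := ?_ }⟩
  · have h0 := congrArg rY ha
    rw [hsum, map_zero] at h0
    have h1 := coeff_eq_zero N _ _ (hb.1 (h0.trans (map_zero _).symm))
    funext i
    exact map_injective_of_isIntegral X (homOfLE hVU) ((congrFun h1 i).trans (map_zero (X.presheaf.map (homOfLE hVU).op).hom).symm)
  · obtain ⟨z, hz⟩ := hb.2 (rY c)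
    obtain ⟨b, rfl⟩ := exists_coeff N hN _ z
    obtain ⟨⟨_, n, rfl⟩, hn⟩ := IsLocalization.exist_integer_multiples_of_finite (Submonoid.powers g) b
    choose a ha using hn
    refine ⟨n, a, hrY ?_⟩
    rw [hsum, Algebra.smul_def, map_mul, show rY (algebraMap Γ(X, U) _ (g ^ n)) = _ from hra (g ^ n), ← hz]
    rw [show (π.app V).hom (res hVU (g ^ n)) = CycCov.chart R ⟨V, hV⟩ (resM L hVU e) (cycGen he') (res hVU f) hf'
      (AdjoinRoot.of _ (res hVU (g ^ n))) from (AdjoinRoot.lift_of _).symm, ← map_mul, Finset.mul_sum]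
    refine congrArg _ (Finset.sum_congr rfl fun i _ => ?_)
    rw [← mul_assoc, ← map_mul]
    congr 2
    exact (ha i).symm
  · let y₀ : Y := hUY.fromSpec ⟨p, hp⟩
    have hy₀ : y₀ ∈ π ⁻¹ᵁ U := hUY.range_fromSpec.le ⟨_, rfl⟩
    letI : Algebra Γ(Y, π ⁻¹ᵁ U) (Y.presheaf.stalk y₀) := (Y.presheaf.germ _ y₀ hy₀).hom.toAlgebra
    haveI h1 := hUY.isLocalization_stalk' ⟨p, hp⟩ hy₀
    let ε := (IsLocalization.algEquiv p.primeCompl (Localization.AtPrime p) (Y.presheaf.stalk y₀)).toRingEquiv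
    obtain ⟨_, _⟩ := hY y₀
    exact ⟨ε.toMulEquiv.isDomain, IsIntegrallyClosed.of_equiv ε.symm⟩
  · haveI : Module.Finite Γ(X, U) Γ(Y, π ⁻¹ᵁ U) := IsFinite.finite_app π U hU
    exact Algebra.IsIntegral.of_finite _ _

end Groth.Agent.CycCov28
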