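import Groth.Agent.CycCov28.Etale
import Groth.Agent.CycCov28.OneBranch
import Groth.Agent.CAlgH3.CyclicCover
import Mathlib.AlgebraicGeometry.Morphisms.Smooth
import Mathlib.Algebra.MvPolynomial.PDeriv

/-!
# Smoothness of the cover where the branch divisor is smooth
-/

set_option autoImplicit false
set_option linter.style.haveILetI false
set_option linter.unusedSectionVars false
set_option backward.isDefEq.respectTransparency false
set_option backward.isDefEq.respectTransparency.types false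
set_option maxHeartbeats 1000000

universe u

open CategoryTheory CategoryTheory.Limits AlgebraicGeometry Opposite TopologicalSpace
open Groth.Agent.Coherent Groth.Agent.PicLib Groth.Agent.AmpleLib
open scoped TensorProduct

namespace Groth.Agent.CycCov28

section Ring

variable {k : Type u} [Field k]

/-- Etale algebras inherit smooth quotients. -/
theorem formallySmooth_quot_etale {A B : Type u} [CommRing A] [CommRing B] [Algebra k A] [Algebra k B] [Algebra A B]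
    [IsScalarTower k A B] [Algebra.FormallyEtale A B] (J : Ideal A) (hJ : Algebra.FormallySmooth k (A ⧸ J)) :
    Algebra.FormallySmooth k (B ⧸ J.map (algebraMap A B)) := by
  haveI : Algebra.FormallyEtale (A ⧸ J) ((A ⧸ J) ⊗[A] B) := inferInstance
  haveI : Algebra.FormallySmooth k ((A ⧸ J) ⊗[A] B) := Algebra.FormallySmooth.comp k (A ⧸ J) _
  let ε₁ := (Algebra.TensorProduct.quotIdealMapEquivTensorQuot B J).toRingEquiv
  let ε₂ := (Algebra.TensorProduct.comm A B (A ⧸ J)).toRingEquiv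
  let ε : (A ⧸ J) ⊗[A] B ≃ₐ[k] B ⧸ J.map (algebraMap A B) := AlgEquiv.ofRingEquiv (f := (ε₁.trans ε₂).symm) fun r => by
    apply (ε₁.trans ε₂).injective
    rw [RingEquiv.apply_symm_apply, IsScalarTower.algebraMap_apply k B (B ⧸ J.map (algebraMap A B)),
      IsScalarTower.algebraMap_apply k A B, RingEquiv.trans_apply]
    have h : ε₁ (Ideal.Quotient.mk _ (algebraMap A B (algebraMap k A r))) = algebraMap A B (algebraMap k A r) ⊗ₜ[A] 1 := rfl
    rw [show (algebraMap B (B ⧸ J.map (algebraMap A B))) = Ideal.Quotient.mk _ from rfl, h]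
    show _ = (Algebra.TensorProduct.comm A B (A ⧸ J)) _
    rw [Algebra.TensorProduct.comm_tmul, Algebra.TensorProduct.algebraMap_apply,
      IsScalarTower.algebraMap_apply k A (A ⧸ J), Algebra.algebraMap_eq_smul_one (R := A) (A := A ⧸ J),
      Algebra.algebraMap_eq_smul_one (R := A) (A := B), TensorProduct.smul_tmul]
  exact Algebra.FormallySmooth.of_equiv ε

/-- A coordinate cuts a smooth subscheme. -/
theorem formallySmooth_quot_coord {B : Type u} [CommRing B] [Algebra k B] {σ : Type u} (c : σ → B) (e : σ)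
    (hc : (MvPolynomial.eval₂Hom (algebraMap k B) c).Etale) : Algebra.FormallySmooth k (B ⧸ Ideal.span {c e}) := by
  classical
  let φ := MvPolynomial.eval₂Hom (algebraMap k B) c
  letI : Algebra (MvPolynomial σ k) B := φ.toAlgebra
  haveI : Algebra.Etale (MvPolynomial σ k) B := RingHom.etale_algebraMap.1 hc
  haveI : IsScalarTower k (MvPolynomial σ k) B := IsScalarTower.of_algebraMap_eq fun r =>
    (MvPolynomial.eval₂Hom_C _ _ r).symm
  let P := MvPolynomial σ k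
  have hq : Algebra.FormallySmooth k (P ⧸ Ideal.span {(MvPolynomial.X e : P)}) := by
    refine CAlgH3.CyclicCover.formallySmooth_of_derivation _
      ((Algebra.linearMap P (P ⧸ Ideal.span {(MvPolynomial.X e : P)})).compDer (MvPolynomial.pderiv e)) ?_
    show algebraMap P _ (MvPolynomial.pderiv e (MvPolynomial.X e)) = 1
    rw [MvPolynomial.pderiv_X_self, map_one]
  have h := formallySmooth_quot_etale (B := B) _ hq
  rw [Ideal.map_span, Set.image_singleton, show algebraMap P B (MvPolynomial.X e) = c e from MvPolynomial.eval₂Hom_X' _ _ e] at h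
  exact h

/-- Smoothness of the model. -/
theorem formallySmooth_model {B : Type u} [CommRing B] [IsDomain B] [Algebra k B] [Algebra.FormallySmooth k B]
    (N α a : ℕ) (hN : 0 < N) (hNk : (N : k) ≠ 0) (u : Bˣ) (v : B) (hv0 : v ≠ 0)
    (hv : Algebra.FormallySmooth k (B ⧸ Ideal.span {v})) : Algebra.FormallySmooth k (Model N α a u v) := by
  have hNu : IsUnit (N : B) := by rw [← map_natCast (algebraMap k B)]; exact (isUnit_iff_ne_zero.2 hNk).map _
  haveI := etale_mid N α hN hNu u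
  haveI : Algebra.FormallySmooth k (Mid N α u) := Algebra.FormallySmooth.comp k B _
  have hz : IsUnit (AdjoinRoot.root (Polynomial.X ^ N.gcd α - Polynomial.C (u : B)) ^ a) := (isUnit_root N α hN u).pow a
  let c : Mid N α u := AdjoinRoot.root _ ^ a * algebraMap B (Mid N α u) v
  haveI : Module.Free B (Mid N α u) :=
    (Polynomial.monic_X_pow_sub_C (u : B) (Nat.gcd_pos_of_pos_left _ hN).ne').free_adjoinRoot
  have hc : c ∈ nonZeroDivisors (Mid N α u) := by
    refine mul_mem hz.mem_nonZeroDivisors (mem_nonZeroDivisors_iff_right.2 fun x hx => ?_)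
    rw [mul_comm, ← Algebra.smul_def] at hx
    exact (smul_eq_zero.1 hx).resolve_left hv0
  have hq : Algebra.FormallySmooth k (Mid N α u ⧸ Ideal.span {c}) := by
    have h := formallySmooth_quot_etale (B := Mid N α u) _ hv
    rwa [Ideal.map_span, Set.image_singleton, ← Ideal.span_singleton_mul_left_unit hz] at h
  refine CAlgH3.CyclicCover.backward c hc _ (isUnit_iff_ne_zero.2 fun h0 => hNk ?_) hq
  obtain ⟨q, hq'⟩ := Nat.div_dvd_of_dvd (Nat.gcd_dvd_left N α)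
  rw [hq', Nat.cast_mul, h0, zero_mul]

end Ring

variable {k : Type u} [Field k] {X Y : Scheme.{u}} (f0 : X ⟶ Spec (CommRingCat.of k)) [Smooth f0] [IsIntegral X]
variable {r : ℕ} {D : Fin r → X.IdealSheafData} {α : Fin r → ℕ}
variable {L : X.Modules} {N : ℕ} {s : Coh.structureModule X ⟶ CohB1.tensorPow L N} {π : Y ⟶ X}

theorem constHom_comp {U : X.Opens} {V : Y.Opens} (e : V ≤ π ⁻¹ᵁ U) :
    constHom (π ≫ f0) V = (π.appLE U V e).hom.comp (constHom f0 U) := by
  rw [constHom, constHom, ← CommRingCat.hom_comp, Category.assoc, Scheme.Hom.appLE_comp_appLE]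

include f0 in
theorem smooth_constHom {U : X.Opens} (hU : IsAffineOpen U) : (constHom f0 U).Smooth := by
  have h := HasRingHomProperty.appLE (P := @Smooth) f0 inferInstance ⟨⊤, isAffineOpen_top _⟩ ⟨U, hU⟩ le_top
  rw [constHom, CommRingCat.hom_comp]
  exact RingHom.Smooth.respectsIso.2 _ (Scheme.ΓSpecIso (CommRingCat.of k)).symm.commRingCatIsoToRingEquiv h

include f0 in
theorem smooth_chart [IsAffineHom π] (hL : PicF.IsInvertible L) (hN : 0 < N) (hNk : (N : k) ≠ 0)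
    (R : CycCov.Root L N s π) (hR : CycCov.IsCover R) {x : X} (Λ : LocalData D α s x)
    (hone : ∀ j j' : LogNCD.Through D x, 0 < α j.1 → 0 < α j'.1 → j = j')
    (hcoord : Nonempty (LogNCD.Through D x) →
      ∃ (n : ℕ) (c : ULift.{u} (Fin n) → Γ(X, Λ.U)) (e : LogNCD.Through D x → ULift.{u} (Fin n)), Function.Injective e ∧
        (MvPolynomial.eval₂Hom (constHom f0 Λ.U) c).Etale ∧ ∀ j, c (e j) = Λ.v j) :
    (constHom (π ≫ f0) (π ⁻¹ᵁ Λ.U)).Smooth := by
  classical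
  haveI : IsFinite π := hR.1
  haveI : Nonempty Λ.U := ⟨⟨x, Λ.hxU⟩⟩
  letI algB : Algebra k Γ(X, Λ.U) := (constHom f0 Λ.U).toAlgebra
  letI := (π.app Λ.U).hom.toAlgebra
  letI algC : Algebra k Γ(Y, π ⁻¹ᵁ Λ.U) := ((π.app Λ.U).hom.comp (constHom f0 Λ.U)).toAlgebra
  haveI : IsScalarTower k Γ(X, Λ.U) Γ(Y, π ⁻¹ᵁ Λ.U) := IsScalarTower.of_algebraMap_eq fun _ => rfl
  haveI hBs : Algebra.Smooth k Γ(X, Λ.U) := RingHom.smooth_algebraMap.1 (smooth_constHom f0 Λ.hU)
  rw [constHom_comp f0 le_rfl, ← Scheme.Hom.app_eq_appLE]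
  refine RingHom.smooth_algebraMap.2 ?_
  haveI : Module.Finite Γ(X, Λ.U) Γ(Y, π ⁻¹ᵁ Λ.U) := IsFinite.finite_app π Λ.U Λ.hU
  haveI : Algebra.FiniteType k Γ(Y, π ⁻¹ᵁ Λ.U) :=
    Algebra.FiniteType.trans (S := Γ(X, Λ.U)) inferInstance inferInstance
  haveI : Algebra.FinitePresentation k Γ(Y, π ⁻¹ᵁ Λ.U) := Algebra.FinitePresentation.of_finiteType.1 inferInstance
  suffices Algebra.FormallySmooth k Γ(Y, π ⁻¹ᵁ Λ.U) from ⟨this, inferInstance⟩
  obtain ⟨S, w, hw⟩ := exists_basis_local f0 hL hN R hR Λ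
  by_cases hpos : ∃ j₀ : LogNCD.Through D x, 0 < α j₀.1
  · obtain ⟨j₀, hj₀⟩ := hpos
    have h0 : ∀ j, j ≠ j₀ → α j.1 = 0 := fun j hj => by
      by_contra h
      exact hj (hone j j₀ (Nat.pos_of_ne_zero h) hj₀)
    have hf := Λ.hfac
    rw [Fintype.prod_eq_single j₀ fun j hj => by rw [h0 j hj, pow_zero]] at hf
    have hw' : ∀ i : Fin N, algebraMap _ _ (Λ.v j₀ ^ ((i : ℕ) * α j₀.1 / N)) * w i = Λ.t R ^ (i : ℕ) := fun i => by
      have := hw i
      rwa [Fintype.prod_eq_single j₀ fun j hj => by rw [h0 j hj, mul_zero, Nat.zero_div, pow_zero]] at this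
    obtain ⟨a, ⟨eM⟩⟩ := exists_equiv S Λ.u (Λ.v j₀) (Λ.hv0 j₀) (α j₀.1) hj₀ hf w hw'
    obtain ⟨σ, c, e, -, het, hce⟩ := hcoord ⟨j₀⟩
    have hq := formallySmooth_quot_coord (k := k) c (e j₀) het
    rw [hce] at hq
    haveI := formallySmooth_model (k := k) N (α j₀.1) a hN hNk Λ.u (Λ.v j₀) (Λ.hv0 j₀) hq
    exact Algebra.FormallySmooth.of_equiv (eM.restrictScalars k)
  · have h0 : ∀ j : LogNCD.Through D x, α j.1 = 0 := fun j => by
      by_contra h
      exact hpos ⟨j, Nat.pos_of_ne_zero h⟩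
    haveI : Algebra.Etale Γ(X, Λ.U) Γ(Y, π ⁻¹ᵁ Λ.U) := etale_of_basis N hN Λ.hNu Λ.u (Λ.t R)
      (by rw [S.ht, Λ.hfac]; simp [h0]) w (fun i => by simpa [h0] using hw i)
    exact Algebra.FormallySmooth.comp k Γ(X, Λ.U) _

include f0 in
theorem smooth_preimage [IsAlgClosed k] (hL : PicF.IsInvertible L) (hN : 0 < N) (hNk : (N : k) ≠ 0)
    (hD : LogNCD.IsNCD D f0) (hs : CycCov.IsZeroDiv (CohB1.tensorPow L N) s (CycCov.divIdeal D α))
    (R : CycCov.Root L N s π) (hR : CycCov.IsCover R)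
    (W : X.Opens) (hW : ∀ x ∈ W, ∀ j j' : Fin r, 0 < α j → 0 < α j' → x ∈ (D j).support → x ∈ (D j').support → j = j') :
    Smooth ((π ⁻¹ᵁ W).ι ≫ π ≫ f0) := by
  haveI : IsFinite π := hR.1
  choose Λ hle hc using fun x : W => exists_localData (L := L) (α := α) (s := s) f0 hL hNk hD hs x.1 W x.2
  have himg : ∀ x : W, (π ⁻¹ᵁ W).ι ''ᵁ ((π ⁻¹ᵁ W).ι ⁻¹ᵁ (π ⁻¹ᵁ (Λ x).U)) = π ⁻¹ᵁ (Λ x).U := fun x => by
    rw [(π ⁻¹ᵁ W).ι.image_preimage_eq_opensRange_inf, Scheme.Opens.opensRange_ι, inf_eq_right]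
    exact π.preimage_mono (hle x)
  have haff : ∀ x : W, IsAffineOpen ((π ⁻¹ᵁ W).ι ⁻¹ᵁ (π ⁻¹ᵁ (Λ x).U)) := fun x =>
    ((π ⁻¹ᵁ W).ι).isAffineOpen_iff_of_isOpenImmersion.1 ((himg x).symm ▸ (Λ x).hU.preimage π)
  refine HasRingHomProperty.of_iSup_eq_top (P := @Smooth) (fun x : W => ⟨_, haff x⟩)
    (top_le_iff.1 fun z _ => Opens.mem_iSup.2 ⟨⟨π z.1, z.2⟩, (Λ ⟨π z.1, z.2⟩).hxU⟩) fun x => ?_
  have h := smooth_chart f0 hL hN hNk R hR (Λ x)
    (fun j j' h h' => Subtype.ext (hW x.1 x.2 j.1 j'.1 h h' j.2 j'.2)) (hc x)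
  have h2 : ((π ≫ f0).appLE ⊤ (π ⁻¹ᵁ (Λ x).U) le_top).hom.Smooth := by
    rw [constHom, CommRingCat.hom_comp] at h
    have h3 := RingHom.Smooth.respectsIso.2 _ (Scheme.ΓSpecIso (CommRingCat.of k)).commRingCatIsoToRingEquiv h
    refine (congrArg RingHom.Smooth (RingHom.ext fun r => ?_)).mp h3
    simp only [RingHom.comp_apply]
    exact congrArg _ (Iso.hom_inv_id_apply (Scheme.ΓSpecIso (CommRingCat.of k)) r)
  have e : ((π ⁻¹ᵁ W).ι ≫ π ≫ f0).appLE ⊤ ((π ⁻¹ᵁ W).ι ⁻¹ᵁ (π ⁻¹ᵁ (Λ x).U)) le_top =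
      (π ≫ f0).appLE ⊤ (π ⁻¹ᵁ (Λ x).U) le_top ≫
        (π ⁻¹ᵁ W).ι.appLE (π ⁻¹ᵁ (Λ x).U) ((π ⁻¹ᵁ W).ι ⁻¹ᵁ (π ⁻¹ᵁ (Λ x).U)) le_rfl :=
    (Scheme.Hom.appLE_comp_appLE _ _ _ _ _ le_top le_rfl).symm
  rw [e, CommRingCat.hom_comp]
  refine (RingHom.Smooth.stableUnderComposition _ _ h2 ((RingHom.etale_iff_formallyUnramified_and_smooth _).1 (RingHom.Etale.of_bijective ?_)).2)
  rw [Scheme.Opens.ι_appLE]
  haveI : IsIso (homOfLE ((himg x).le) : _ ⟶ π ⁻¹ᵁ (Λ x).U) :=
    ⟨homOfLE (himg x).ge, Subsingleton.elim _ _, Subsingleton.elim _ _⟩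
  exact ConcreteCategory.bijective_of_isIso (Y.presheaf.map (homOfLE ((himg x).le)).op)

end Groth.Agent.CycCov28
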